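import Groth.Prelude.Def_FilD
import Mathlib.Algebra.Homology.ShortComplex.ShortExact
import Mathlib.Algebra.Homology.ShortComplex.Abelian
import Mathlib.CategoryTheory.Abelian.Refinements

/-! Finite filtered objects: graded pieces, strictness via refinements. -/

universe v u

open CategoryTheory CategoryTheory.Limits Opposite

set_option backward.defeqAttrib.useBackward true
set_option backward.isDefEq.respectTransparency false
set_option backward.isDefEq.respectTransparency.types false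
namespace Groth.L10.Fil

variable {A : Type u} [Category.{v} A] [Abelian A]

/-- The transition map. -/
abbrev tr (F : ℤᵒᵖ ⥤ A) (p q : ℤ) (h : p ≤ q) : F.obj (op q) ⟶ F.obj (op p) := F.map (homOfLE h).op

/-- The step map. -/
abbrev st (F : ℤᵒᵖ ⥤ A) (p : ℤ) : F.obj (op (p + 1)) ⟶ F.obj (op p) := F.map (FilD.stepHom p)

theorem tr_refl (F : ℤᵒᵖ ⥤ A) (p : ℤ) (h : p ≤ p) : tr F p p h = 𝟙 _ := F.map_id _

theorem tr_comp (F : ℤᵒᵖ ⥤ A) {p q r : ℤ} (h : p ≤ q) (h' : q ≤ r) :
    tr F q r h' ≫ tr F p q h = tr F p r (h.trans h') := (F.map_comp _ _).symm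

theorem st_eq (F : ℤᵒᵖ ⥤ A) (p : ℤ) : st F p = tr F p (p + 1) (by omega) := rfl

@[reassoc]
theorem st_naturality {F G : ℤᵒᵖ ⥤ A} (φ : F ⟶ G) (p : ℤ) :
    st F p ≫ φ.app (op p) = φ.app (op (p + 1)) ≫ st G p := φ.naturality _

@[reassoc]
theorem tr_naturality {F G : ℤᵒᵖ ⥤ A} (φ : F ⟶ G) (p q : ℤ) (h : p ≤ q) :
    tr F p q h ≫ φ.app (op p) = φ.app (op q) ≫ tr G p q h := φ.naturality _

/-- All transition maps are monomorphisms. -/
def MonoTr (F : ℤᵒᵖ ⥤ A) : Prop := ∀ ⦃p q : ℤᵒᵖ⦄ (f : p ⟶ q), Mono (F.map f)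

theorem monoTr_of_st {F : ℤᵒᵖ ⥤ A} (h : ∀ p, Mono (st F p)) : MonoTr F := by
  intro p q f
  obtain ⟨p⟩ := p
  obtain ⟨q⟩ := q
  have hqp : q ≤ p := leOfHom f.unop
  rw [Subsingleton.elim f (homOfLE hqp).op]
  induction p, hqp using Int.leInduction with
  | base => rw [show F.map (homOfLE le_rfl).op = 𝟙 (F.obj (op q)) from tr_refl F q le_rfl]; infer_instance
  | succ p hp ih =>
    have := ih (homOfLE hp).op
    have := h p
    change Mono (tr F q (p + 1) _)
    rw [← tr_comp F hp (show p ≤ p + 1 by omega)]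
    exact mono_comp (st F p) (tr F q p hp)

/-- The projection onto the graded piece. -/
noncomputable abbrev toGr (F : ℤᵒᵖ ⥤ A) (p : ℤ) : F.obj (op p) ⟶ (FilD.gr A p).obj F := cokernel.π (st F p)

theorem st_toGr (F : ℤᵒᵖ ⥤ A) (p : ℤ) : st F p ≫ toGr F p = 0 := cokernel.condition _

@[reassoc]
theorem toGr_naturality {F G : ℤᵒᵖ ⥤ A} (φ : F ⟶ G) (p : ℤ) :
    toGr F p ≫ (FilD.gr A p).map φ = φ.app (op p) ≫ toGr G p := cokernel.π_desc _ _ _

/-- Elements killed in the graded piece come from the next step. -/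
theorem exists_of_toGr_eq_zero (F : ℤᵒᵖ ⥤ A) (p : ℤ) {T : A} (x : T ⟶ F.obj (op p)) (h : x ≫ toGr F p = 0) :
    ∃ (T' : A) (π : T' ⟶ T) (_ : Epi π) (y : T' ⟶ F.obj (op (p + 1))), π ≫ x = y ≫ st F p :=
  ((ShortComplex.mk _ _ (st_toGr F p)).exact_of_g_is_cokernel (cokernelIsCokernel _)).exact_up_to_refinements x h

/-- The condition that a map is strict for one step. -/
def Step {F G : ℤᵒᵖ ⥤ A} (φ : F ⟶ G) : Prop :=
  ∀ (p : ℤ) ⦃T : A⦄ (x : T ⟶ F.obj (op p)) (y : T ⟶ G.obj (op (p + 1))), x ≫ φ.app (op p) = y ≫ st G p →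
    ∃ (T' : A) (π : T' ⟶ T) (_ : Epi π) (z : T' ⟶ F.obj (op (p + 1))), π ≫ y = z ≫ φ.app (op (p + 1))

/-- The condition that a map is strict. -/
def Strict {F G : ℤᵒᵖ ⥤ A} (φ : F ⟶ G) : Prop :=
  ∀ (p q : ℤ) (h : p ≤ q) ⦃T : A⦄ (x : T ⟶ F.obj (op p)) (y : T ⟶ G.obj (op q)),
    x ≫ φ.app (op p) = y ≫ tr G p q h →
      ∃ (T' : A) (π : T' ⟶ T) (_ : Epi π) (z : T' ⟶ F.obj (op q)), π ≫ y = z ≫ φ.app (op q)

theorem Strict.step {F G : ℤᵒᵖ ⥤ A} {φ : F ⟶ G} (h : Strict φ) : Step φ :=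
  fun p _ x y e => h p (p + 1) (by omega) x y e

theorem strict_of_step {F G : ℤᵒᵖ ⥤ A} {φ : F ⟶ G} (h : Step φ) : Strict φ := by
  intro p q hpq
  induction q, hpq using Int.leInduction with
  | base =>
    intro T x y e
    rw [tr_refl, Category.comp_id] at e
    exact ⟨T, 𝟙 T, inferInstance, x, by rw [Category.id_comp, e]⟩
  | succ q hq ih =>
    intro T x y e
    rw [← tr_comp G hq (show q ≤ q + 1 by omega), ← Category.assoc] at e
    obtain ⟨T₁, π₁, hπ₁, z, hz⟩ := ih x (y ≫ tr G q (q + 1) (by omega)) e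
    obtain ⟨T₂, π₂, hπ₂, w, hw⟩ := h q z (π₁ ≫ y) (by rw [← hz, Category.assoc]; rfl)
    exact ⟨T₂, π₂ ≫ π₁, epi_comp _ _, w, by rw [Category.assoc, hw]⟩

theorem isStrict_iff {X Y : FilD.FilF A} (φ : X ⟶ Y) : FilD.IsStrict φ ↔ Strict φ.hom := by
  constructor
  · intro h p q hpq T x y e
    have hm : Mono (Y.obj.map (homOfLE hpq).op) := Y.property.1 _
    let f := φ.hom.app (op q) ≫ Y.obj.map (homOfLE hpq).op
    let S₁ := imageSubobject (φ.hom.app (op p))
    let S₂ := Subobject.mk (Y.obj.map (homOfLE hpq).op)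
    have h₁ : S₁.Factors (x ≫ φ.hom.app (op p)) := imageSubobject_factors_comp_self _ x
    have h₂ : S₂.Factors (x ≫ φ.hom.app (op p)) := (Subobject.mk_factors_iff _ _).2 ⟨y, e.symm⟩
    have hf : (imageSubobject f).Factors (x ≫ φ.hom.app (op p)) := by
      rw [h p q hpq]; exact (Subobject.inf_factors _).2 ⟨h₁, h₂⟩
    obtain ⟨T', π, hπ, z, hz⟩ := surjective_up_to_refinements_of_epi (factorThruImageSubobject f)
      ((imageSubobject f).factorThru _ hf)
    refine ⟨T', π, hπ, z, ?_⟩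
    have := congrArg (· ≫ (imageSubobject f).arrow) hz
    simp only [Category.assoc, Subobject.factorThru_arrow, imageSubobject_arrow_comp] at this
    rw [← cancel_mono (Y.obj.map (homOfLE hpq).op), Category.assoc, Category.assoc]
    exact (congrArg (π ≫ ·) e.symm).trans this
  · intro h p q hpq
    have hm : Mono (Y.obj.map (homOfLE hpq).op) := Y.property.1 _
    apply le_antisymm
    · refine le_inf ?_ ?_
      · refine imageSubobject_le _ (X.obj.map (homOfLE hpq).op ≫ factorThruImageSubobject _) ?_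
        rw [Category.assoc, imageSubobject_arrow_comp]
        exact tr_naturality φ.hom p q hpq
      · exact imageSubobject_le_mk _ _ (φ.hom.app (op q)) rfl
    · let f := φ.hom.app (op q) ≫ Y.obj.map (homOfLE hpq).op
      let P := imageSubobject (φ.hom.app (op p)) ⊓ Subobject.mk (Y.obj.map (homOfLE hpq).op)
      have h₁ : (imageSubobject (φ.hom.app (op p))).Factors P.arrow :=
        Subobject.factors_of_le _ inf_le_left (Subobject.factors_self _)
      obtain ⟨y, hy⟩ : ∃ y : (P : A) ⟶ Y.obj.obj (op q), y ≫ Y.obj.map (homOfLE hpq).op = P.arrow := (Subobject.mk_factors_iff _ _).1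
        (Subobject.factors_of_le P.arrow (inf_le_right : P ≤ Subobject.mk (Y.obj.map (homOfLE hpq).op)) (Subobject.factors_self _))
      obtain ⟨T₁, π₁, hπ₁, x, hx⟩ := surjective_up_to_refinements_of_epi
        (factorThruImageSubobject (φ.hom.app (op p))) (Subobject.factorThru _ _ h₁)
      have hx' := congrArg (· ≫ (imageSubobject (φ.hom.app (op p))).arrow) hx
      simp only [Category.assoc, Subobject.factorThru_arrow, imageSubobject_arrow_comp] at hx'
      obtain ⟨T₂, π₂, hπ₂, z, hz⟩ := h p q hpq x (π₁ ≫ y) (by rw [← hx', Category.assoc]; exact congrArg (π₁ ≫ ·) hy.symm)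
      have hk : P.arrow ≫ cokernel.π (imageSubobject f).arrow = 0 := by
        rw [← cancel_epi π₁, ← cancel_epi π₂, comp_zero, comp_zero, ← hy]
        change π₂ ≫ π₁ ≫ (y ≫ Y.obj.map (homOfLE hpq).op) ≫ _ = 0
        rw [Category.assoc y, ← Category.assoc π₁ y, ← Category.assoc π₂ (π₁ ≫ y), hz, Category.assoc]
        have hcond : f ≫ cokernel.π (imageSubobject f).arrow = 0 := by
          conv_lhs => arg 1; rw [← imageSubobject_arrow_comp f]
          rw [Category.assoc, cokernel.condition, comp_zero]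
        rw [← Category.assoc (φ.hom.app (op q)), hcond, comp_zero]
      obtain ⟨l, hl⟩ := ((ShortComplex.mk _ _ (cokernel.condition (imageSubobject f).arrow)).exact_of_g_is_cokernel
        (cokernelIsCokernel _)).lift' P.arrow hk
      exact Subobject.le_of_comm l hl

end Groth.L10.Fil
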