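import Groth.Agent.L10.Fil.Levels
import Mathlib.CategoryTheory.Limits.FunctorCategory.EpiMono

/-! Closure properties of finite filtered objects. -/

universe v u

open CategoryTheory CategoryTheory.Limits Opposite

set_option backward.defeqAttrib.useBackward true
set_option backward.isDefEq.respectTransparency false
set_option backward.isDefEq.respectTransparency.types false
namespace Groth.L10.Fil

variable {A : Type u} [Category.{v} A] [Abelian A]

/-- The filtration vanishes in large degrees. -/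
def ZeroTop (F : ℤᵒᵖ ⥤ A) : Prop := ∃ b : ℤ, ∀ p : ℤ, b ≤ p → IsZero (F.obj (op p))

/-- The filtration is constant in small degrees. -/
def IsoBot (F : ℤᵒᵖ ⥤ A) : Prop := ∃ a : ℤ, ∀ ⦃p q : ℤᵒᵖ⦄ (f : p ⟶ q), p.unop ≤ a → IsIso (F.map f)

theorem isFinFil_mk {F : ℤᵒᵖ ⥤ A} (h₁ : MonoTr F) (h₂ : ZeroTop F) (h₃ : IsoBot F) : FilD.IsFinFil A F := ⟨h₁, h₂, h₃⟩

theorem isFinFil_of_iso {F G : ℤᵒᵖ ⥤ A} (e : F ≅ G) (h : FilD.IsFinFil A F) : FilD.IsFinFil A G := by
  obtain ⟨h₁, ⟨b, hb⟩, ⟨a, ha⟩⟩ := h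
  refine ⟨fun p q f => ?_, ⟨b, fun p hp => (hb p hp).of_iso (e.app _).symm⟩, ⟨a, fun p q f hp => ?_⟩⟩
  · exact ((MorphismProperty.monomorphisms A).arrow_mk_iso_iff
      (Arrow.isoMk (e.app p) (e.app q) (e.hom.naturality f).symm)).1 (h₁ f)
  · exact ((MorphismProperty.isomorphisms A).arrow_mk_iso_iff
      (Arrow.isoMk (e.app p) (e.app q) (e.hom.naturality f).symm)).1 (ha f hp)

instance : (FilD.IsFinFil A).IsClosedUnderIsomorphisms := ⟨fun e h => isFinFil_of_iso e h⟩

theorem isFinFil_kernel {F G : ℤᵒᵖ ⥤ A} (φ : F ⟶ G) (hF : FilD.IsFinFil A F) (hG : IsoBot G) :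
    FilD.IsFinFil A (kernel φ) := by
  obtain ⟨h₁, ⟨b, hb⟩, ⟨a, ha⟩⟩ := hF
  obtain ⟨c, hc⟩ := hG
  have hι : ∀ p, Mono ((kernel.ι φ).app p) := fun p => (NatTrans.mono_iff_mono_app (kernel.ι φ)).1 inferInstance p
  refine ⟨fun p q f => ?_, ⟨b, fun p hp => IsZero.of_mono ((kernel.ι φ).app _) (hb p hp)⟩, ⟨min a c, fun p q f hp => ?_⟩⟩
  · have := h₁ f
    have : Mono ((kernel φ).map f ≫ (kernel.ι φ).app q) := (kernel.ι φ).naturality f ▸ mono_comp _ _
    exact mono_of_mono _ ((kernel.ι φ).app q)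
  · have := ha f (by omega)
    have := hc f (by omega)
    let e : ∀ r, (kernel φ).obj r ≅ kernel (φ.app r) := fun r =>
      PreservesKernel.iso ((evaluation ℤᵒᵖ A).obj r) φ
    have he : (kernel φ).map f ≫ (e q).hom = (e p).hom ≫ kernel.map _ _ (F.map f) (G.map f) (φ.naturality f).symm := by
      rw [← cancel_mono (kernel.ι (φ.app q))]
      simp only [e, PreservesKernel.iso_hom, Category.assoc, kernel.lift_ι]
      erw [kernelComparison_comp_ι]
      erw [reassoc_of% (kernelComparison_comp_ι φ ((evaluation ℤᵒᵖ A).obj p))]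
      exact (kernel.ι φ).naturality f
    have hk : IsIso (kernel.map _ _ (F.map f) (G.map f) (φ.naturality f).symm) :=
      ⟨kernel.map _ _ (inv (F.map f)) (inv (G.map f)) (by rw [IsIso.eq_inv_comp, ← Category.assoc, φ.naturality f]; simp),
        by ext; simp, by ext; simp⟩
    have : (kernel φ).map f = ((e p).hom ≫ kernel.map _ _ (F.map f) (G.map f) (φ.naturality f).symm) ≫ (e q).inv := by
      rw [← he, Category.assoc, Iso.hom_inv_id, Category.comp_id]
    rw [this]
    infer_instance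

/-- A monomorphism of finite filtered objects is injective on every level. -/
theorem mono_hom {X Y : FilD.FilF A} (u : X ⟶ Y) [Mono u] : Mono u.hom := by
  let K : FilD.FilF A := ⟨kernel u.hom, isFinFil_kernel u.hom X.property Y.property.2.2⟩
  let k : K ⟶ X := ObjectProperty.homMk (kernel.ι u.hom)
  have hk : k = 0 := zero_of_comp_mono u (ObjectProperty.hom_ext _ (kernel.condition u.hom))
  exact Preadditive.mono_of_isZero_kernel _ (IsZero.of_mono_eq_zero (kernel.ι u.hom) (congrArg (fun m => m.hom) hk))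

theorem mono_app {X Y : FilD.FilF A} (u : X ⟶ Y) [Mono u] (p : ℤ) : Mono (u.hom.app (op p)) :=
  (NatTrans.mono_iff_mono_app u.hom).1 (mono_hom u) _

theorem mono_of_mono_hom {X Y : FilD.FilF A} (u : X ⟶ Y) (h : Mono u.hom) : Mono u :=
  (FilD.IsFinFil A).ι.mono_of_mono_map h

end Groth.L10.Fil
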