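import Groth.Agent.L10.Fil.Levels
import Groth.Agent.L10.Fil.Closure
import Mathlib.CategoryTheory.ObjectProperty.FiniteProducts
import Mathlib.Algebra.Homology.HomologicalComplexAbelian
import Mathlib.Algebra.Homology.HomologySequence
import Mathlib.Algebra.Homology.HomotopyCategory.MappingCone
import Mathlib.Algebra.Homology.DerivedCategory.Basic

/-! Filtered acyclicity and filtered quasi-isomorphisms through the levels. -/

universe v u

open CategoryTheory CategoryTheory.Limits Opposite

set_option backward.defeqAttrib.useBackward true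
set_option backward.isDefEq.respectTransparency false
set_option backward.isDefEq.respectTransparency.types false
namespace Groth.L10.Fil

variable {A : Type u} [Category.{v} A] [Abelian A]

theorem isFinFil_biprod {F G : ℤᵒᵖ ⥤ A} (hF : FilD.IsFinFil A F) (hG : FilD.IsFinFil A G) :
    FilD.IsFinFil A (F ⊞ G) := by
  obtain ⟨h₁, ⟨b, hb⟩, ⟨a, ha⟩⟩ := hF
  obtain ⟨k₁, ⟨c, hc⟩, ⟨d, hd⟩⟩ := hG
  have htot : ∀ r : ℤᵒᵖ, (biprod.fst : F ⊞ G ⟶ F).app r ≫ (biprod.inl : F ⟶ F ⊞ G).app r +
      (biprod.snd : F ⊞ G ⟶ G).app r ≫ (biprod.inr : G ⟶ F ⊞ G).app r = 𝟙 _ := fun r => by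
    rw [← NatTrans.comp_app, ← NatTrans.comp_app, ← NatTrans.app_add, biprod.total]; rfl
  have hext : ∀ {T : A} {r : ℤᵒᵖ} (x : T ⟶ (F ⊞ G).obj r), x ≫ (biprod.fst : F ⊞ G ⟶ F).app r = 0 →
      x ≫ (biprod.snd : F ⊞ G ⟶ G).app r = 0 → x = 0 := fun {T r} x e₁ e₂ => by
    rw [← Category.comp_id x, ← htot r, Preadditive.comp_add, reassoc_of% e₁, reassoc_of% e₂]; simp
  refine ⟨fun p q f => Preadditive.mono_of_cancel_zero _ fun {T} x hx => hext x ?_ ?_,
    ⟨max b c, fun p hp => (IsZero.iff_id_eq_zero _).2 (hext _ ((hb p (by omega)).eq_of_tgt _ _) ((hc p (by omega)).eq_of_tgt _ _))⟩,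
    ⟨min a d, fun p q f hp => ?_⟩⟩
  · have := h₁ f
    rw [← cancel_mono (F.map f), Category.assoc, ← (biprod.fst : F ⊞ G ⟶ F).naturality f, reassoc_of% hx]
    simp
  · have := k₁ f
    rw [← cancel_mono (G.map f), Category.assoc, ← (biprod.snd : F ⊞ G ⟶ G).naturality f, reassoc_of% hx]
    simp
  · have := ha f (by omega)
    have := hd f (by omega)
    refine ⟨(biprod.fst : F ⊞ G ⟶ F).app q ≫ inv (F.map f) ≫ (biprod.inl : F ⟶ F ⊞ G).app p +
      (biprod.snd : F ⊞ G ⟶ G).app q ≫ inv (G.map f) ≫ (biprod.inr : G ⟶ F ⊞ G).app p, ?_, ?_⟩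
    · rw [Preadditive.comp_add, NatTrans.naturality_assoc, IsIso.hom_inv_id_assoc, NatTrans.naturality_assoc,
        IsIso.hom_inv_id_assoc, htot]
    · rw [Preadditive.add_comp, Category.assoc, Category.assoc, ← NatTrans.naturality, IsIso.inv_hom_id_assoc,
        Category.assoc, Category.assoc, ← NatTrans.naturality, IsIso.inv_hom_id_assoc, htot]

instance : (FilD.IsFinFil A).IsClosedUnderBinaryProducts where
  limitsOfShape_le := by
    rintro X ⟨p⟩
    exact (FilD.IsFinFil A).prop_of_iso
      ((biprod.isoProd _ _) ≪≫ IsLimit.conePointUniqueUpToIso (prodIsProd _ _)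
        ((IsLimit.postcomposeHomEquiv (diagramIsoPair p.diag) _).2 p.isLimit))
      (isFinFil_biprod (p.prop_diag_obj (.mk .left)) (p.prop_diag_obj (.mk .right)))

theorem isFinFil_of_isZero {F : ℤᵒᵖ ⥤ A} (h : IsZero F) : FilD.IsFinFil A F := by
  obtain ⟨Z, hZ, hP⟩ := ObjectProperty.ContainsZero.exists_zero (P := FilD.IsFinFil A)
  exact (FilD.IsFinFil A).prop_of_iso (hZ.iso h) hP

instance : (FilD.IsFinFil A).IsClosedUnderLimitsOfShape (Discrete.{0} PEmpty) where
  limitsOfShape_le := by
    rintro X ⟨p⟩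
    exact isFinFil_of_isZero ((IsZero.iff_id_eq_zero _).2 (p.isLimit.hom_ext (fun j => j.as.elim)))

instance : (FilD.IsFinFil A).IsClosedUnderFiniteProducts := .mk'

instance : HasFiniteBiproducts (FilD.FilF A) := HasFiniteBiproducts.of_hasFiniteProducts

instance : HasBinaryBiproducts (FilD.FilF A) := hasBinaryBiproducts_of_finite_biproducts _

instance (p : ℤ) : (levF A p).Additive where map_add := rfl

/-- The complex of a level. -/
noncomputable abbrev levCx (A : Type u) [Category.{v} A] [Abelian A] (p : ℤ) :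
    CochainComplex (FilD.FilF A) ℤ ⥤ CochainComplex A ℤ :=
  (levF A p).mapHomologicalComplex (ComplexShape.up ℤ)

/-- The step, as a natural transformation. -/
def stNat (A : Type u) [Category.{v} A] [Abelian A] (p : ℤ) : levF A (p + 1) ⟶ levF A p where
  app X := st X.obj p
  naturality _ _ f := (st_naturality f.hom p).symm

/-- The projection to the graded piece, as a natural transformation. -/
noncomputable def grNat (A : Type u) [Category.{v} A] [Abelian A] (p : ℤ) : levF A p ⟶ FilD.grF A p where
  app X := toGr X.obj p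
  naturality _ _ f := (toGr_naturality f.hom p).symm

/-- The short complex of complexes `Fᵖ⁺¹ ⟶ Fᵖ ⟶ grᵖ`. -/
noncomputable def levSC (K : CochainComplex (FilD.FilF A) ℤ) (p : ℤ) : ShortComplex (CochainComplex A ℤ) :=
  ShortComplex.mk ((NatTrans.mapHomologicalComplex (stNat A p) (ComplexShape.up ℤ)).app K)
    ((NatTrans.mapHomologicalComplex (grNat A p) (ComplexShape.up ℤ)).app K) (by
      ext n
      exact st_toGr (K.X n).obj p)

theorem levSC_shortExact (K : CochainComplex (FilD.FilF A) ℤ) (p : ℤ) : (levSC K p).ShortExact :=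
  HomologicalComplex.shortExact_of_degreewise_shortExact _ fun n =>
    { exact := ShortComplex.exact_of_g_is_cokernel _ (cokernelIsCokernel (st (K.X n).obj p))
      mono_f := (K.X n).property.1 _
      epi_g := inferInstanceAs (Epi (toGr (K.X n).obj p)) }

/-- Exactness on the levels from exactness on the graded pieces, in a fixed degree. -/
theorem exactAt_lev {K : CochainComplex (FilD.FilF A) ℤ} {n : ℤ}
    (h : ∀ p, ((FilD.grCx p).obj K).ExactAt n) (p : ℤ) : ((levCx A p).obj K).ExactAt n := by
  rw [HomologicalComplex.exactAt_iff' _ (n - 1) n (n + 1) (by simp) (by simp)]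
  exact exact_levels (K.sc' (n - 1) n (n + 1)) (fun q => by
    have := h q
    rw [HomologicalComplex.exactAt_iff' _ (n - 1) n (n + 1) (by simp) (by simp)] at this
    exact this) p

/-- Filtered acyclicity through the levels. -/
theorem isFilteredAcyclic_iff (K : CochainComplex (FilD.FilF A) ℤ) :
    FilD.IsFilteredAcyclic K ↔ ∀ (p n : ℤ), ((levCx A p).obj K).ExactAt n := by
  refine ⟨fun h p n => exactAt_lev (fun q => h q n) p, fun h p n => ?_⟩
  rw [HomologicalComplex.exactAt_iff_isZero_homology]
  exact ((levSC_shortExact K p).homology_exact₃ n (n + 1) rfl).isZero_X₂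
    ((h p n).isZero_homology.eq_of_src _ _) ((h (p + 1) (n + 1)).isZero_homology.eq_of_tgt _ _)

/-- The cone criterion. -/
theorem quasiIso_iff_cone {B : Type*} [Category B] [Abelian B] {K L : CochainComplex B ℤ}
    (f : K ⟶ L) : QuasiIso f ↔ ∀ n, (CochainComplex.mappingCone f).ExactAt n := by
  rw [← HomotopyCategory.quotient_obj_mem_subcategoryAcyclic_iff_exactAt,
    ← HomologicalComplex.mem_quasiIso_iff, ← HomotopyCategory.quotient_map_mem_quasiIso_iff,
    HomotopyCategory.quasiIso_eq_trW_subcategoryAcyclic]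
  exact (HomotopyCategory.subcategoryAcyclic B).trW_iff_of_distinguished _
    (HomotopyCategory.mappingCone_triangleh_distinguished f)

/-- A filtered quasi-isomorphism is one with filtered acyclic cone. -/
theorem isFilteredQuasiIso_iff_cone {K L : CochainComplex (FilD.FilF A) ℤ} (φ : K ⟶ L) :
    FilD.IsFilteredQuasiIso φ ↔ FilD.IsFilteredAcyclic (CochainComplex.mappingCone φ) := by
  refine ⟨fun h p n => ?_, fun h p => ?_⟩
  · exact ((quasiIso_iff_cone _).1 (h p) n).of_iso (CochainComplex.mappingCone.mapHomologicalComplexIso φ (FilD.grF A p)).symm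
  · exact (quasiIso_iff_cone _).2 fun n => (h p n).of_iso (CochainComplex.mappingCone.mapHomologicalComplexIso φ (FilD.grF A p))

/-- A filtered quasi-isomorphism is a quasi-isomorphism on every level. -/
theorem isFilteredQuasiIso_iff {K L : CochainComplex (FilD.FilF A) ℤ} (φ : K ⟶ L) :
    FilD.IsFilteredQuasiIso φ ↔ ∀ p, QuasiIso ((levCx A p).map φ) := by
  rw [isFilteredQuasiIso_iff_cone, isFilteredAcyclic_iff]
  refine forall_congr' fun p => ?_
  rw [quasiIso_iff_cone]
  exact ⟨fun h n => (h n).of_iso (CochainComplex.mappingCone.mapHomologicalComplexIso φ (levF A p)),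
    fun h n => (h n).of_iso (CochainComplex.mappingCone.mapHomologicalComplexIso φ (levF A p)).symm⟩

end Groth.L10.Fil
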