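import Groth.Agent.L10.Fil.Resolve
import Mathlib.Algebra.Homology.HomologicalComplexBiprod

/-! Filtered injective resolutions whose components are strict monomorphisms. -/

universe v u

open CategoryTheory CategoryTheory.Limits Opposite

set_option backward.defeqAttrib.useBackward true
set_option backward.isDefEq.respectTransparency false
set_option backward.isDefEq.respectTransparency.types false
namespace Groth.L10.Fil

section disk

variable {C : Type u} [Category.{v} C] [Preadditive C] [HasBinaryBiproducts C] (E : ℤ → C)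

/-- The contractible complex on a family of objects. -/
noncomputable def disk : CochainComplex C ℤ :=
  CochainComplex.of (fun n => E n ⊞ E (n + 1))
    (fun n => (biprod.snd : E n ⊞ E (n + 1) ⟶ E (n + 1)) ≫ (biprod.inl : E (n + 1) ⟶ E (n + 1) ⊞ E (n + 1 + 1))) (fun n => by simp)

theorem disk_d (n : ℤ) :
    (disk E).d n (n + 1) = (biprod.snd : E n ⊞ E (n + 1) ⟶ E (n + 1)) ≫ (biprod.inl : E (n + 1) ⟶ E (n + 1) ⊞ E (n + 1 + 1)) := by
  simp [disk]

/-- The disk complex is contractible. -/
noncomputable def diskHomotopy : Homotopy (𝟙 (disk E)) 0 where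
  hom i j := if h : j + 1 = i then biprod.fst ≫ eqToHom (by rw [h]) ≫ biprod.inr else 0
  zero i j h := dif_neg (fun e => h e)
  comm i := by
    obtain ⟨k, rfl⟩ : ∃ k, i = k + 1 := ⟨i - 1, by omega⟩
    rw [dNext_eq _ (show (ComplexShape.up ℤ).Rel (k + 1) (k + 1 + 1) from rfl),
      prevD_eq _ (show (ComplexShape.up ℤ).Rel k (k + 1) from rfl), dif_pos rfl, dif_pos rfl, disk_d, disk_d,
      HomologicalComplex.zero_f, add_zero, HomologicalComplex.id_f]
    simp only [eqToHom_refl, Category.id_comp, Category.assoc, biprod.inl_fst_assoc, biprod.inr_snd_assoc]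
    exact (biprod.total (X := E (k + 1)) (Y := E (k + 1 + 1))).symm.trans (add_comm _ _)

/-- The map into the disk complex. -/
noncomputable def toDisk {K : CochainComplex C ℤ} (e : ∀ n, K.X n ⟶ E n) : K ⟶ disk E where
  f n := biprod.lift (e n) (K.d n (n + 1) ≫ e (n + 1))
  comm' i j hij := by
    obtain rfl : i + 1 = j := hij
    rw [disk_d]
    apply biprod.hom_ext <;> simp

theorem toDisk_fst {K : CochainComplex C ℤ} (e : ∀ n, K.X n ⟶ E n) (n : ℤ) :
    (toDisk E e).f n ≫ (biprod.fst : E n ⊞ E (n + 1) ⟶ E n) = e n := biprod.lift_fst _ _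

/-- The projection away from a contractible summand. -/
noncomputable def fstHtpyEquiv (L D : CochainComplex C ℤ) (h : Homotopy (𝟙 D) 0) : HomotopyEquiv (L ⊞ D) L where
  hom := biprod.fst
  inv := biprod.inl
  homotopyHomInvId := (Homotopy.equivSubZero.symm ((Homotopy.ofEq (by
      rw [Category.comp_id, sub_eq_iff_eq_add, add_comm, biprod.total])).trans
    (((h.compLeft (biprod.snd : L ⊞ D ⟶ D)).compRight biprod.inr).trans (Homotopy.ofEq (by simp))))).symm
  homotopyInvHomId := Homotopy.ofEq biprod.inl_fst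

end disk

variable {A : Type u} [Category.{v} A] [Abelian A]

theorem filInj_biprod {X Y : FilD.FilF A} (hX : FilD.IsFilteredInjective X) (hY : FilD.IsFilteredInjective Y) :
    FilD.IsFilteredInjective (X ⊞ Y) := fun p => by
  have := hX p
  have := hY p
  have := preservesBinaryBiproducts_of_preservesBiproducts (FilD.grF A p)
  exact Injective.of_iso ((FilD.grF A p).mapBiprod X Y).symm inferInstance

theorem filInj_of_isZero {X : FilD.FilF A} (hX : IsZero X) : FilD.IsFilteredInjective X :=
  fun p => ((FilD.grF A p).map_isZero hX).injective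

/-- A factor of a strict monomorphism is strict. -/
theorem step_of_comp {X Y Z : FilD.FilF A} (u : X ⟶ Y) (v : Y ⟶ Z) (hm : Mono (u ≫ v)) (h : Step (u ≫ v).hom) :
    Step u.hom := fun p T x y e => by
  obtain ⟨T', π, hπ, z, hz⟩ := h p x (y ≫ v.hom.app (op (p + 1))) (by
    rw [ObjectProperty.FullSubcategory.comp_hom, NatTrans.comp_app, reassoc_of% e, Category.assoc, st_naturality])
  refine ⟨T', π, hπ, z, ?_⟩
  have := mono_app (u ≫ v) p
  have hzx : z ≫ st X.obj p = π ≫ x := by
    rw [← cancel_mono ((u ≫ v).hom.app (op p)), Category.assoc z, st_naturality, ← reassoc_of% hz,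
      Category.assoc π x, ObjectProperty.FullSubcategory.comp_hom, NatTrans.comp_app, reassoc_of% e, st_naturality]
  have : Mono (st Y.obj p) := Y.property.1 _
  rw [← cancel_mono (st Y.obj p), Category.assoc, Category.assoc z, ← st_naturality, reassoc_of% hzx, e]

variable [EnoughInjectives A]

/-- Bounded below filtered injective resolutions by componentwise strict monomorphisms. -/
theorem exists_strict_resolution (K : CochainComplex (FilD.FilF A) ℤ) (a : ℤ) [K.IsStrictlyGE a] :
    ∃ (I : CochainComplex (FilD.FilF A) ℤ) (φ : K ⟶ I), I.IsStrictlyGE (a - 1) ∧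
      (∀ n, FilD.IsFilteredInjective (I.X n)) ∧
      FilD.IsFilteredQuasiIso φ ∧ ∀ n, Mono (φ.f n) ∧ FilD.IsStrict (φ.f n) := by
  obtain ⟨L, α, hL, hLi, hα⟩ := exists_resolution K a
  have hE : ∀ n, ∃ (E : FilD.FilF A) (u : K.X n ⟶ E),
      FilD.IsFilteredInjective E ∧ Mono u ∧ Step u.hom ∧ (n < a → IsZero E) := fun n => by
    by_cases hn : n < a
    · have h0 := CochainComplex.isZero_of_isStrictlyGE K a n hn
      exact ⟨_, 𝟙 _, filInj_of_isZero h0, inferInstance,
        fun p T x y e => ⟨T, 𝟙 T, inferInstance, y, (Category.id_comp y).trans (Category.comp_id y).symm⟩, fun _ => h0⟩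
    · obtain ⟨E, u, hE, hm, hs⟩ := exists_strictMono (K.X n)
      have : ∀ c, Mono (u.hom.app c) := fun c => hm c.unop
      exact ⟨E, u, hE, mono_of_mono_hom u ((NatTrans.mono_iff_mono_app _).2 this), hs.step, fun h => absurd h hn⟩
  choose E e hEi hem hes hE0 using hE
  let φ := biprod.lift α (toDisk E e)
  have hφ : ∀ n, φ.f n ≫ ((biprod.snd : L ⊞ disk E ⟶ disk E).f n ≫ (biprod.fst : E n ⊞ E (n + 1) ⟶ E n)) = e n :=
    fun n => by
      rw [← Category.assoc, ← HomologicalComplex.comp_f, biprod.lift_snd]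
      exact toDisk_fst E e n
  refine ⟨L ⊞ disk E, φ, ?_, fun n => ?_, fun p => ?_, fun n => ?_⟩
  · rw [CochainComplex.isStrictlyGE_iff]
    intro n hn
    refine IsZero.of_iso ?_ (HomologicalComplex.biprodXIso L (disk E) n)
    refine (IsZero.iff_id_eq_zero _).2 (biprod.hom_ext _ _
      ((CochainComplex.isZero_of_isStrictlyGE L a n (by omega)).eq_of_tgt _ _) (IsZero.eq_of_tgt ?_ _ _))
    exact (IsZero.iff_id_eq_zero _).2 (biprod.hom_ext _ _
      ((hE0 n (by omega)).eq_of_tgt _ _) ((hE0 (n + 1) (by omega)).eq_of_tgt _ _))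
  · intro p
    have := filInj_biprod (hLi n) (filInj_biprod (hEi n) (hEi (n + 1))) p
    exact Injective.of_iso ((FilD.grF A p).mapIso (HomologicalComplex.biprodXIso L (disk E) n)).symm this
  · have h1 : QuasiIso ((FilD.grCx p).map (biprod.fst : L ⊞ disk E ⟶ L)) :=
      inferInstanceAs (QuasiIso ((FilD.grF A p).mapHomotopyEquiv (fstHtpyEquiv L (disk E) (diskHomotopy E))).hom)
    have h2 : QuasiIso ((FilD.grCx p).map φ ≫ (FilD.grCx p).map (biprod.fst : L ⊞ disk E ⟶ L)) := by
      rw [← Functor.map_comp, biprod.lift_fst]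
      exact hα p
    exact quasiIso_of_comp_right _ ((FilD.grCx p).map (biprod.fst : L ⊞ disk E ⟶ L))
  · have hm : Mono (φ.f n ≫ ((biprod.snd : L ⊞ disk E ⟶ disk E).f n ≫ (biprod.fst : E n ⊞ E (n + 1) ⟶ E n))) :=
      (hφ n).symm ▸ hem n
    refine ⟨mono_of_mono _ ((biprod.snd : L ⊞ disk E ⟶ disk E).f n ≫ (biprod.fst : E n ⊞ E (n + 1) ⟶ E n)), ?_⟩
    refine (isStrict_iff _).2 (strict_of_step (step_of_comp _ _ hm ?_))
    rw [hφ]
    exact hes n

end Groth.L10.Fil
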