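import Groth.Agent.L10.Fil.Extend
import Mathlib.CategoryTheory.Functor.OfSequence
import Mathlib.CategoryTheory.Preadditive.Injective.Basic

/-! Strict embeddings into filtered injective objects. -/

universe v u

open CategoryTheory CategoryTheory.Limits Opposite
open scoped ZeroObject

set_option backward.defeqAttrib.useBackward true
set_option backward.isDefEq.respectTransparency false
set_option backward.isDefEq.respectTransparency.types false
namespace Groth.L10.Fil

variable {A : Type u} [Category.{v} A] [Abelian A]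

theorem isoBot_of_st {F : ℤᵒᵖ ⥤ A} {a : ℤ} (h : ∀ p, p < a → IsIso (st F p)) : IsoBot F := by
  refine ⟨a, fun r s f hr => ?_⟩
  obtain ⟨p⟩ := r
  obtain ⟨q⟩ := s
  have hqp : q ≤ p := leOfHom f.unop
  change p ≤ a at hr
  rw [Subsingleton.elim f (homOfLE hqp).op]
  change IsIso (tr F q p hqp)
  induction p, hqp using Int.leInduction with
  | base => rw [tr_refl]; infer_instance
  | succ p hp ih =>
    have := ih (homOfLE hp).op (by omega)
    have := h p (by omega)
    rw [← tr_comp F hp (show p ≤ p + 1 by omega)]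
    change IsIso (st F p ≫ _)
    infer_instance

variable [EnoughInjectives A] (X : FilD.FilF A) (a b : ℤ)

/-- The injective receiving a graded piece. -/
noncomputable def Jz (q : ℤ) : A := if q < a then 0 else Injective.under ((FilD.gr A q).obj X.obj)

instance injective_Jz (q : ℤ) : Injective (Jz X a q) := by
  unfold Jz
  split_ifs
  · exact (isZero_zero A).injective
  · infer_instance

/-- The map from a graded piece. -/
noncomputable def ez (q : ℤ) : (FilD.gr A q).obj X.obj ⟶ Jz X a q :=
  if h : q < a then 0 else Injective.ι _ ≫ eqToHom (by simp [Jz, h])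

/-- The partial sums. -/
noncomputable def W : ℕ → A
  | 0 => 0
  | k + 1 => W k ⊞ Jz X a (b - k - 1)

/-- The functor on natural numbers. -/
noncomputable def WF : ℕ ⥤ A := Functor.ofSequence (X := W X a b) (fun _ => biprod.inl)

/-- The index of a level. -/
def idx : ℤᵒᵖ ⥤ ℕ where
  obj r := (b - r.unop).toNat
  map {r s} f := homOfLE (by have := leOfHom f.unop; omega)

/-- The filtered injective. -/
noncomputable def envObj : ℤᵒᵖ ⥤ A := idx b ⋙ WF X a b

instance injective_W : ∀ k, Injective (W X a b k)
  | 0 => (isZero_zero A).injective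
  | k + 1 =>
    have := injective_W k
    inferInstanceAs (Injective (W X a b k ⊞ Jz X a (b - k - 1)))

/-- The components of the embedding. -/
noncomputable def vv (hm : ∀ p, Mono (st X.obj p)) : ∀ (k : ℕ) (p : ℤ), X.obj.obj (op p) ⟶ W X a b k
  | 0, _ => 0
  | k + 1, p =>
    haveI := hm p
    biprod.lift (Injective.factorThru (vv hm k (p + 1)) (st X.obj p))
      (if h : p = b - k - 1 then toGr X.obj p ≫ ez X a p ≫ eqToHom (by rw [h]) else 0)

theorem WF_succ (k : ℕ) : (WF X a b).map (homOfLE (Nat.le_add_right k 1)) = biprod.inl :=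
  Functor.ofSequence_map_homOfLE_succ _ k

theorem envObj_st (p : ℤ) (k : ℕ) (hk : (b - (p + 1)).toNat = k) (hp : p < b) :
    ∃ (e₁ : (envObj X a b).obj (op (p + 1)) ≅ W X a b k) (e₂ : (envObj X a b).obj (op p) ≅ W X a b (k + 1)),
      e₁.inv ≫ st (envObj X a b) p ≫ e₂.hom = biprod.inl := by
  have h₂ : (b - p).toNat = k + 1 := by omega
  refine ⟨eqToIso (congrArg (W X a b) hk), eqToIso (congrArg (W X a b) h₂), ?_⟩
  have key : ∀ (i j : ℕ) (hi : i = k) (hj : j = k + 1) (hij : i ≤ j),
      eqToHom (congrArg (W X a b) hi).symm ≫ (WF X a b).map (homOfLE hij) ≫ eqToHom (congrArg (W X a b) hj) = biprod.inl := by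
    rintro i j rfl rfl hij
    exact (Category.id_comp _).trans ((Category.comp_id _).trans (WF_succ X a b i))
  exact key _ _ hk h₂ (by omega)

theorem monoTr_envObj : MonoTr (envObj X a b) := monoTr_of_st fun p => by
  by_cases hp : p < b
  · obtain ⟨e₁, e₂, h⟩ := envObj_st X a b p _ rfl hp
    rw [Iso.inv_comp_eq, ← Iso.eq_comp_inv] at h
    rw [h]
    infer_instance
  · refine ⟨fun {T} g g' _ => IsZero.eq_of_tgt ?_ g g'⟩
    change IsZero (W X a b (b - (p + 1)).toNat)
    rw [show (b - (p + 1)).toNat = 0 by omega]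
    exact isZero_zero A

theorem zeroTop_envObj : ZeroTop (envObj X a b) := ⟨b, fun p hp => by
  change IsZero (W X a b (b - p).toNat)
  rw [show (b - p).toNat = 0 by omega]
  exact isZero_zero A⟩

theorem isZero_Jz {q : ℤ} (h : q < a) : IsZero (Jz X a q) := by
  rw [Jz, if_pos h]; exact isZero_zero A

theorem isoBot_envObj : IsoBot (envObj X a b) := isoBot_of_st (a := min a b) fun p hp => by
  obtain ⟨e₁, e₂, h⟩ := envObj_st X a b p _ rfl (by omega)
  rw [Iso.inv_comp_eq, ← Iso.eq_comp_inv] at h
  rw [h]
  have hz : IsZero (Jz X a (b - (b - (p + 1)).toNat - 1)) := isZero_Jz X a (by omega)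
  have : IsIso (biprod.inl : W X a b (b - (p + 1)).toNat ⟶ W X a b (b - (p + 1)).toNat ⊞ Jz X a (b - (b - (p + 1)).toNat - 1)) :=
    ⟨biprod.fst, biprod.inl_fst, by apply biprod.hom_ext' <;> apply biprod.hom_ext <;> simp [hz.eq_of_src _ (0 : _ ⟶ Jz X a (b - (b - (p + 1)).toNat - 1))]⟩
  infer_instance

theorem injective_gr_envObj (p : ℤ) : Injective ((FilD.gr A p).obj (envObj X a b)) := by
  by_cases hp : p < b
  · obtain ⟨e₁, e₂, h⟩ := envObj_st X a b p _ rfl hp
    refine Injective.of_iso ?_ (injective_Jz X a (b - (b - (p + 1)).toNat - 1))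
    exact (IsColimit.coconePointUniqueUpToIso (cokernelIsCokernel _) (BinaryBicone.isColimitInlCokernelCofork
      (BinaryBiproduct.isColimit (W X a b (b - (p + 1)).toNat) (Jz X a (b - (b - (p + 1)).toNat - 1))))).symm ≪≫
      cokernel.mapIso _ _ e₁.symm e₂.symm (by
        change biprod.inl ≫ e₂.inv = e₁.inv ≫ st (envObj X a b) p
        rw [← h]
        simp)
  · refine IsZero.injective ?_
    refine IsZero.of_epi (cokernel.π ((envObj X a b).map (FilD.stepHom p))) ?_
    change IsZero (W X a b (b - p).toNat)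
    rw [show (b - p).toNat = 0 by omega]
    exact isZero_zero A

/-- The filtered injective object. -/
noncomputable def env : FilD.FilF A :=
  ⟨envObj X a b, isFinFil_mk (monoTr_envObj X a b) (zeroTop_envObj X a b) (isoBot_envObj X a b)⟩

variable (hm : ∀ p, Mono (st X.obj p)) (hb : ∀ p, b ≤ p → IsZero (X.obj.obj (op p)))

/-- The embedding. -/
noncomputable def envι : X.obj ⟶ envObj X a b :=
  natTransOfSteps (fun p => vv X a b hm (b - p).toNat p) fun p => by
    change _ = vv X a b hm _ (p + 1) ≫ (WF X a b).map ((idx b).map (FilD.stepHom p))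
    by_cases hp : p < b
    · have key : ∀ (k j : ℕ), j = k + 1 → ∀ (hkj : k ⟶ j),
          st X.obj p ≫ vv X a b hm j p = vv X a b hm k (p + 1) ≫ (WF X a b).map hkj := by
        rintro k _ rfl hkj
        rw [Subsingleton.elim hkj (homOfLE (Nat.le_add_right k 1)), WF_succ]
        have := hm p
        apply biprod.hom_ext
        · simp only [vv, Category.assoc, biprod.lift_fst, Injective.comp_factorThru]
          erw [biprod.inl_fst]
          exact (Category.comp_id _).symm
        · simp only [vv, Category.assoc, biprod.lift_snd, biprod.inl_snd, comp_zero]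
          split_ifs
          · rw [← Category.assoc, st_toGr, zero_comp]
          · exact comp_zero
      exact key _ _ (show (b - p).toNat = (b - (p + 1)).toNat + 1 by omega) _
    · exact (hb (p + 1) (by omega)).eq_of_src _ _

theorem mono_ez (ha : ∀ q, q < a → IsZero ((FilD.gr A q).obj X.obj)) (q : ℤ) : Mono (ez X a q) := by
  unfold ez
  split_ifs with h
  · exact ⟨fun g g' _ => (ha q h).eq_of_tgt g g'⟩
  · infer_instance

include hb in
theorem envι_key (ha : ∀ q, q < a → IsZero ((FilD.gr A q).obj X.obj)) (p : ℤ) (hp : p < b) {T : A}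
    (x : T ⟶ X.obj.obj (op p)) (y : T ⟶ (envObj X a b).obj (op (p + 1)))
    (h : x ≫ (envι X a b hm hb).app (op p) = y ≫ st (envObj X a b) p) : x ≫ toGr X.obj p = 0 := by
  change x ≫ vv X a b hm _ p = y ≫ (WF X a b).map ((idx b).map (FilD.stepHom p)) at h
  have key : ∀ (k j : ℕ), j = k + 1 → b - k - 1 = p → ∀ (hkj : k ⟶ j) (y : T ⟶ W X a b k),
      x ≫ vv X a b hm j p = y ≫ (WF X a b).map hkj → x ≫ toGr X.obj p = 0 := by
    rintro k _ rfl hk hkj y h
    rw [Subsingleton.elim hkj (homOfLE (Nat.le_add_right k 1)), WF_succ] at h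
    have h' := congrArg (· ≫ biprod.snd) h
    simp only [vv, Category.assoc, biprod.lift_snd, biprod.inl_snd, comp_zero, dif_pos hk.symm] at h'
    have := mono_ez X a ha p
    exact zero_of_comp_mono (ez X a p ≫ eqToHom (by rw [hk])) ((Category.assoc _ _ _).trans h')
  exact key _ _ (show (b - p).toNat = (b - (p + 1)).toNat + 1 by omega) (by omega) _ y h

include hb in
theorem mono_envι_app (ha : ∀ q, q < a → IsZero ((FilD.gr A q).obj X.obj)) (p : ℤ) :
    Mono ((envι X a b hm hb).app (op p)) := by
  refine levels_induction b (P := fun p => Mono ((envι X a b hm hb).app (op p)))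
    (fun p hp => ⟨fun g g' _ => (hb p hp).eq_of_tgt g g'⟩) (fun p ih => ?_) p
  by_cases hp : p < b
  · refine Preadditive.mono_of_cancel_zero _ fun {T} x hx => ?_
    have hz := envι_key X a b hm hb ha p hp x 0 (by rw [hx, zero_comp])
    obtain ⟨T', π, hπ, z, hz'⟩ := exists_of_toGr_eq_zero X.obj p x hz
    have : Mono (st (envObj X a b) p) := monoTr_envObj X a b _
    have h0 : z ≫ (envι X a b hm hb).app (op (p + 1)) = 0 := by
      rw [← cancel_mono (st (envObj X a b) p), Category.assoc, ← st_naturality, ← reassoc_of% hz', hx, comp_zero, zero_comp]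
    rw [← cancel_epi π, comp_zero, hz', zero_of_comp_mono _ h0, zero_comp]
  · exact ⟨fun g g' _ => (hb p (by omega)).eq_of_tgt g g'⟩

include hb in
theorem step_envι (ha : ∀ q, q < a → IsZero ((FilD.gr A q).obj X.obj)) : Step (envι X a b hm hb) := fun p T x y h => by
  by_cases hp : p < b
  · obtain ⟨T', π, hπ, z, hz⟩ := exists_of_toGr_eq_zero X.obj p x (envι_key X a b hm hb ha p hp x y h)
    refine ⟨T', π, hπ, z, ?_⟩
    have : Mono (st (envObj X a b) p) := monoTr_envObj X a b _
    rw [← cancel_mono (st (envObj X a b) p), Category.assoc, ← h, reassoc_of% hz, st_naturality, Category.assoc]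
  · refine ⟨T, 𝟙 T, inferInstance, 0, IsZero.eq_of_tgt ?_ _ _⟩
    change IsZero (W X a b (b - (p + 1)).toNat)
    rw [show (b - (p + 1)).toNat = 0 by omega]
    exact isZero_zero A

omit a b hm hb in
/-- Every finite filtered object has a strict embedding into a filtered injective one. -/
theorem exists_strictMono : ∃ (I : FilD.FilF A) (u : X ⟶ I),
    FilD.IsFilteredInjective I ∧ (∀ p : ℤ, Mono (u.hom.app (op p))) ∧ Strict u.hom := by
  obtain ⟨b, hb⟩ := X.property.2.1
  obtain ⟨a, ha⟩ := X.property.2.2
  have hm : ∀ p, Mono (st X.obj p) := fun p => X.property.1 _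
  have ha' : ∀ q, q < a → IsZero ((FilD.gr A q).obj X.obj) := fun q hq => by
    have : IsIso (X.obj.map (FilD.stepHom q)) := ha _ (show q + 1 ≤ a by omega)
    exact isZero_cokernel_of_epi _
  exact ⟨env X a b, ObjectProperty.homMk (envι X a b hm hb), injective_gr_envObj X a b,
    mono_envι_app X a b hm hb ha', strict_of_step (step_envι X a b hm hb ha')⟩

end Groth.L10.Fil
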