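import Groth.Agent.L10.Fil.Closure
import Mathlib.CategoryTheory.Preadditive.Injective.Basic

/-! Extension of maps into filtered injective objects. -/

universe v u

open CategoryTheory CategoryTheory.Limits Opposite

set_option backward.defeqAttrib.useBackward true
set_option backward.isDefEq.respectTransparency false
set_option backward.isDefEq.respectTransparency.types false
namespace Groth.L10.Fil

variable {A : Type u} [Category.{v} A] [Abelian A]

/-- A natural transformation from compatibility with the steps. -/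
def natTransOfSteps {F G : ℤᵒᵖ ⥤ A} (app : ∀ p : ℤ, F.obj (op p) ⟶ G.obj (op p))
    (h : ∀ p, st F p ≫ app p = app (p + 1) ≫ st G p) : F ⟶ G where
  app r := app r.unop
  naturality := by
    intro r s f
    obtain ⟨p⟩ := r
    obtain ⟨q⟩ := s
    have hqp : q ≤ p := leOfHom f.unop
    rw [Subsingleton.elim f (homOfLE hqp).op]
    change tr F q p hqp ≫ app q = app p ≫ tr G q p hqp
    induction p, hqp using Int.leInduction with
    | base => rw [tr_refl, tr_refl, Category.id_comp, Category.comp_id]
    | succ p hp ih =>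
      rw [← tr_comp F hp (show p ≤ p + 1 by omega), ← tr_comp G hp (show p ≤ p + 1 by omega), Category.assoc,
        ih (homOfLE hp).op, ← Category.assoc, ← Category.assoc]
      exact congrArg (· ≫ _) (h p)

theorem injective_levels {I : ℤᵒᵖ ⥤ A} (h₁ : MonoTr I) (h₂ : ZeroTop I)
    (hI : ∀ p : ℤ, Injective ((FilD.gr A p).obj I)) (p : ℤ) : Injective (I.obj (op p)) := by
  obtain ⟨b, hb⟩ := h₂
  refine levels_induction b (fun p hp => (hb p hp).injective) (fun p hp => ?_) p
  have := hI p
  have : Mono (st I p) := h₁ _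
  let T := ShortComplex.mk _ _ (st_toGr I p)
  have hT : T.Exact := ShortComplex.exact_of_g_is_cokernel _ (cokernelIsCokernel _)
  let σ := ShortComplex.Splitting.ofExactOfRetraction T hT (Injective.factorThru (𝟙 _) (st I p))
    (Injective.comp_factorThru _ _) inferInstance
  exact Injective.of_iso (⟨biprod.desc (st I p) σ.s, biprod.lift σ.r (toGr I p), by
    apply biprod.hom_ext' <;> apply biprod.hom_ext <;> simp [T, σ.f_r, σ.s_g, σ.s_r],
    by rw [biprod.lift_desc]; exact σ.id⟩ : I.obj (op (p + 1)) ⊞ (FilD.gr A p).obj I ≅ I.obj (op p)) inferInstance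

variable {X Y I : ℤᵒᵖ ⥤ A} (u : X ⟶ Y) (g : X ⟶ I)
  (hker : ∀ (p : ℤ) ⦃T : A⦄ (x : T ⟶ X.obj (op p)), x ≫ u.app (op p) = 0 → x ≫ g.app (op p) = 0)
  (hu : Step u) (hI : ∀ p : ℤ, Injective (I.obj (op p)))

include hker hu hI in
/-- One step of the extension. -/
theorem exists_extension_step (p : ℤ) (h : Y.obj (op (p + 1)) ⟶ I.obj (op (p + 1)))
    (hh : u.app (op (p + 1)) ≫ h = g.app (op (p + 1))) :
    ∃ h' : Y.obj (op p) ⟶ I.obj (op p), u.app (op p) ≫ h' = g.app (op p) ∧ st Y p ≫ h' = h ≫ st I p := by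
  let m : X.obj (op p) ⊞ Y.obj (op (p + 1)) ⟶ Y.obj (op p) := biprod.desc (u.app _) (st Y p)
  let t : X.obj (op p) ⊞ Y.obj (op (p + 1)) ⟶ I.obj (op p) := biprod.desc (g.app _) (h ≫ st I p)
  have hk : kernel.ι m ≫ t = 0 := by
    let x := kernel.ι m ≫ biprod.fst
    let y := kernel.ι m ≫ biprod.snd
    have hxy : x ≫ u.app (op p) + y ≫ st Y p = 0 := by
      have e : kernel.ι m ≫ m = kernel.ι m ≫ (biprod.fst ≫ u.app (op p) + biprod.snd ≫ st Y p) :=
        congrArg (kernel.ι m ≫ ·) biprod.desc_eq
      rw [kernel.condition, Preadditive.comp_add] at e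
      simpa only [x, y, Category.assoc] using e.symm
    obtain ⟨T', π, hπ, z, hz⟩ := hu p x (-y) (by rw [Preadditive.neg_comp]; exact eq_neg_of_add_eq_zero_left hxy)
    have h1 : (π ≫ x - z ≫ st X p) ≫ g.app (op p) = 0 := hker p _ (by
      rw [Preadditive.sub_comp, sub_eq_zero, Category.assoc, Category.assoc z, st_naturality, ← reassoc_of% hz,
        eq_neg_of_add_eq_zero_left hxy]
      simp)
    rw [Preadditive.sub_comp, sub_eq_zero, Category.assoc, Category.assoc z, st_naturality, ← hh] at h1
    rw [← cancel_epi π, comp_zero, show t = biprod.fst ≫ g.app (op p) + biprod.snd ≫ h ≫ st I p from biprod.desc_eq,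
      Preadditive.comp_add, Preadditive.comp_add, ← Category.assoc (kernel.ι m), ← Category.assoc (kernel.ι m)]
    change π ≫ x ≫ g.app (op p) + π ≫ y ≫ h ≫ st I p = 0
    rw [h1, Category.assoc, ← reassoc_of% hz]
    simp
  let T := ShortComplex.mk (kernel.ι m) m (kernel.condition m)
  have hT : T.Exact := ShortComplex.exact_of_f_is_kernel _ (kernelIsKernel m)
  have := hI p
  refine ⟨hT.descToInjective t hk, ?_, ?_⟩
  · have := congrArg (fun k => biprod.inl ≫ k) (hT.comp_descToInjective t hk)
    simpa [T, m, t] using this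
  · have := congrArg (fun k => biprod.inr ≫ k) (hT.comp_descToInjective t hk)
    simpa [T, m, t] using this

/-- The extension, in high degree. -/
noncomputable def extFun (b : ℤ) (hb : ∀ p, b ≤ p → ∀ {T : A} (x : T ⟶ X.obj (op p)), x ≫ g.app (op p) = 0) :
    ∀ (k : ℕ) (p : ℤ), {h : Y.obj (op p) ⟶ I.obj (op p) // b ≤ p + k → u.app (op p) ≫ h = g.app (op p)}
  | 0, p => ⟨0, fun hp => by rw [comp_zero, ← Category.id_comp (g.app (op p)), hb p (by omega) (𝟙 _)]⟩
  | k + 1, p =>
    if hp : b ≤ p + k + 1 then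
      ⟨(exists_extension_step u g hker hu hI p (extFun b hb k (p + 1)).1 ((extFun b hb k (p + 1)).2 (by omega))).choose,
        fun _ => (exists_extension_step u g hker hu hI p _ ((extFun b hb k (p + 1)).2 (by omega))).choose_spec.1⟩
    else ⟨0, fun h => absurd (by push_cast at h ⊢; omega) hp⟩

include hker hu hI in
/-- The extension. -/
theorem exists_extension (hY : ZeroTop Y) (hX : ZeroTop X) : ∃ h : Y ⟶ I, u ≫ h = g := by
  obtain ⟨b₁, hb₁⟩ := hY
  obtain ⟨b₂, hb₂⟩ := hX
  let b := max b₁ b₂
  have hb : ∀ p, b ≤ p → ∀ {T : A} (x : T ⟶ X.obj (op p)), x ≫ g.app (op p) = 0 := fun p hp _ x => by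
    rw [(hb₂ p (le_trans (le_max_right _ _) hp)).eq_of_tgt x 0, zero_comp]
  let app : ∀ p, Y.obj (op p) ⟶ I.obj (op p) := fun p => (extFun u g hker hu hI b hb (b - p).toNat p).1
  have hst : ∀ p, st Y p ≫ app p = app (p + 1) ≫ st I p := fun p => by
    by_cases hp : b ≤ p
    · exact (hb₁ _ (le_trans (le_max_left _ _) (by omega : b ≤ p + 1))).eq_of_src _ _
    · have e : (b - p).toNat = (b - (p + 1)).toNat + 1 := by omega
      have e' : (extFun u g hker hu hI b hb ((b - (p + 1)).toNat + 1) p).1 = (exists_extension_step u g hker hu hI p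
          (extFun u g hker hu hI b hb (b - (p + 1)).toNat (p + 1)).1
          ((extFun u g hker hu hI b hb (b - (p + 1)).toNat (p + 1)).2 (by omega))).choose := by
        simp only [extFun]
        rw [dif_pos (by omega)]
      simp only [app]
      rw [e, e']
      exact (exists_extension_step u g hker hu hI p _ ((extFun u g hker hu hI b hb (b - (p + 1)).toNat (p + 1)).2 (by omega))).choose_spec.2
  refine ⟨natTransOfSteps app hst, ?_⟩
  ext ⟨p⟩
  exact (extFun u g hker hu hI b hb (b - p).toNat p).2 (by omega)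

/-- Extension along a strict monomorphism of finite filtered objects. -/
theorem exists_desc {X Y I : FilD.FilF A} (u : X ⟶ Y) [Mono u] (hu : Strict u.hom)
    (hI : FilD.IsFilteredInjective I) (f : X ⟶ I) : ∃ g : Y ⟶ I, u ≫ g = f := by
  have := fun p => mono_app u p
  obtain ⟨h, hh⟩ := exists_extension u.hom f.hom
    (fun p T x hx => by rw [(cancel_mono (u.hom.app (op p))).1 (hx.trans zero_comp.symm), zero_comp])
    hu.step (fun p => injective_levels I.property.1 I.property.2.1 hI p) Y.property.2.1 X.property.2.1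
  exact ⟨ObjectProperty.homMk h, ObjectProperty.hom_ext _ hh⟩

end Groth.L10.Fil
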