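import Groth.Agent.L10.Fil.Complex
import Groth.Agent.L10.Fil.Extend
import Mathlib.Algebra.Homology.HomotopyCategory.Pretriangulated
import Mathlib.Algebra.Homology.Embedding.CochainComplex

/-! Maps from filtered acyclic complexes into bounded below complexes of filtered injectives. -/

universe v u

open CategoryTheory CategoryTheory.Limits Opposite CategoryTheory.Pretriangulated

set_option backward.defeqAttrib.useBackward true
set_option backward.isDefEq.respectTransparency false
set_option backward.isDefEq.respectTransparency.types false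
namespace Groth.L10.Fil

variable {A : Type u} [Category.{v} A] [Abelian A] {K I : CochainComplex (FilD.FilF A) ℤ}

/-- A cocycle-killing map descends along the differential. -/
theorem exists_desc_d (hK : FilD.IsFilteredAcyclic K) (n : ℤ) {J : FilD.FilF A}
    (hJ : FilD.IsFilteredInjective J) (g : K.X (n + 1) ⟶ J) (hg : K.d n (n + 1) ≫ g = 0) :
    ∃ h : K.X (n + 1 + 1) ⟶ J, K.d (n + 1) (n + 1 + 1) ≫ h = g := by
  have hex : ∀ p, ((K.sc' n (n + 1) (n + 1 + 1)).map (FilD.grF A p)).Exact := fun p => by
    have := hK p (n + 1)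
    rw [HomologicalComplex.exactAt_iff' _ n (n + 1) (n + 1 + 1) (by simp) (by simp)] at this
    exact this
  obtain ⟨h, hh⟩ := exists_extension (K.d (n + 1) (n + 1 + 1)).hom g.hom (fun p T x hx => by
      obtain ⟨T', π, hπ, w, hw⟩ := (exact_levels _ hex p).exact_up_to_refinements x hx
      change π ≫ x = w ≫ (K.d n (n + 1)).hom.app (op p) at hw
      rw [← cancel_epi π, comp_zero, ← Category.assoc, hw, Category.assoc, ← NatTrans.comp_app,
        ← ObjectProperty.FullSubcategory.comp_hom, hg]
      exact comp_zero)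
    (strict_of_gr_exact _ hex).2.step (fun p => injective_levels J.property.1 J.property.2.1 hJ p)
    (K.X (n + 1 + 1)).property.2.1 (K.X (n + 1)).property.2.1
  exact ⟨ObjectProperty.homMk h, ObjectProperty.hom_ext _ hh⟩

variable (hK : FilD.IsFilteredAcyclic K) (hI : ∀ n, FilD.IsFilteredInjective (I.X n)) (φ : K ⟶ I)

include hK hI in
/-- One step of the homotopy. -/
theorem exists_next (m n l : ℤ) (hmn : m + 1 = n) (hnl : n + 1 = l) (h : K.X n ⟶ I.X m)
    (hc : K.d m n ≫ (φ.f n - h ≫ I.d m n) = 0) :
    ∃ h' : K.X l ⟶ I.X n, K.d n l ≫ h' = φ.f n - h ≫ I.d m n := by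
  subst hmn hnl
  exact exists_desc_d hK m (hI _) _ hc

section

variable (a : ℤ) [I.IsStrictlyGE a]

/-- The components of the homotopy, computed in `k` steps. -/
noncomputable def htp : ∀ (k : ℕ) (m n : ℤ), m + 1 = n →
    {h : K.X n ⟶ I.X m // m < a + k → K.d m n ≫ (φ.f n - h ≫ I.d m n) = 0}
  | 0, m, n, hmn => ⟨0, fun hm => by
      rw [zero_comp, sub_zero, ← φ.comm m n, (CochainComplex.isZero_of_isStrictlyGE I a m (by omega)).eq_of_tgt (φ.f m) 0,
        zero_comp]⟩
  | k + 1, m, n, hmn =>
    if hm : m < a + (k + 1 : ℕ) then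
      ⟨(exists_next hK hI φ (m - 1) m n (by omega) hmn (htp k (m - 1) m (by omega)).1
          ((htp k (m - 1) m (by omega)).2 (by omega))).choose,
        fun _ => by
          rw [Preadditive.comp_sub, ← Category.assoc, (exists_next hK hI φ (m - 1) m n (by omega) hmn _
            ((htp k (m - 1) m (by omega)).2 (by omega))).choose_spec, Preadditive.sub_comp, Category.assoc,
            HomologicalComplex.d_comp_d, comp_zero, sub_zero, φ.comm, sub_self]⟩
    else ⟨0, fun h => absurd h hm⟩

/-- The number of steps used in a degree. -/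
def steps (m : ℤ) : ℕ := (m - a + 1).toNat

theorem htp_eq (l m n : ℤ) (hlm : l + 1 = m) (hmn : m + 1 = n) :
    K.d m n ≫ (htp hK hI φ a (steps a m) m n hmn).1 = φ.f m - (htp hK hI φ a (steps a l) l m hlm).1 ≫ I.d l m := by
  obtain rfl : l = m - 1 := by omega
  by_cases hm : m < a
  · exact (CochainComplex.isZero_of_isStrictlyGE I a m hm).eq_of_tgt _ _
  · have e : steps a m = steps a (m - 1) + 1 := by simp only [steps]; omega
    rw [e]
    simp only [htp]
    rw [dif_pos (by simp only [steps]; omega)]
    exact (exists_next hK hI φ (m - 1) m n (by omega) hmn (htp hK hI φ a (steps a (m - 1)) (m - 1) m (by omega)).1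
      ((htp hK hI φ a (steps a (m - 1)) (m - 1) m (by omega)).2 (by simp only [steps]; omega))).choose_spec

include hK hI a in
/-- Every map is null homotopic. -/
theorem nullHomotopic : Nonempty (Homotopy φ 0) := ⟨{
  hom := fun i j => if h : j + 1 = i then (htp hK hI φ a (steps a j) j i h).1 else 0
  zero := fun i j h => dif_neg (fun e => h e)
  comm := fun i => by
    rw [dNext_eq _ (show (ComplexShape.up ℤ).Rel i (i + 1) from rfl),
      prevD_eq _ (show (ComplexShape.up ℤ).Rel (i - 1) i by simp), HomologicalComplex.zero_f, add_zero,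
      dif_pos rfl, dif_pos (by omega), htp_eq hK hI φ a (i - 1) i (i + 1) (by omega) rfl]
    abel }⟩

end

theorem isFilteredAcyclic_shift {K : CochainComplex (FilD.FilF A) ℤ} (hK : FilD.IsFilteredAcyclic K) (m : ℤ) :
    FilD.IsFilteredAcyclic ((CategoryTheory.shiftFunctor (CochainComplex (FilD.FilF A) ℤ) m).obj K) := fun p n => by
  refine HomologicalComplex.ExactAt.of_iso (K := (CategoryTheory.shiftFunctor (CochainComplex A ℤ) m).obj ((FilD.grCx p).obj K)) ?_
    (((FilD.grCx (A := A) p).commShiftIso m).app K).symm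
  rw [HomologicalComplex.exactAt_iff_isZero_homology]
  exact (hK p (n + m)).isZero_homology.of_iso
    (((HomologicalComplex.homologyFunctor A (ComplexShape.up ℤ) 0).shiftIso m n (n + m) (by omega)).app _)

variable {K L : CochainComplex (FilD.FilF A) ℤ} (J : CochainComplex (FilD.FilF A) ℤ) (a : ℤ) [hJa : J.IsStrictlyGE a]
  (hJ : ∀ n, FilD.IsFilteredInjective (J.X n)) (α : K ⟶ L) (hα : FilD.IsFilteredQuasiIso α)

local notation "QF" => HomotopyCategory.quotient (FilD.FilF A) (ComplexShape.up ℤ)

include hJ a hJa in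
theorem hom_eq_zero {Z : CochainComplex (FilD.FilF A) ℤ} (hZ : FilD.IsFilteredAcyclic Z)
    (γ : (QF).obj Z ⟶ (QF).obj J) : γ = 0 := by
  obtain ⟨g, rfl⟩ := (QF).map_surjective γ
  obtain ⟨h⟩ := nullHomotopic hZ hJ g a
  rw [HomotopyCategory.eq_of_homotopy g 0 h, (QF).map_zero]

include hJ a hJa hα in
/-- Precomposition with a filtered quasi-isomorphism is bijective. -/
theorem precomp_bijective :
    Function.Bijective (fun β : (QF).obj L ⟶ (QF).obj J => (QF).map α ≫ β) := by
  have hc := (isFilteredQuasiIso_iff_cone α).1 hα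
  have hT := HomotopyCategory.mappingCone_triangleh_distinguished α
  refine ⟨fun β β' h => ?_, fun γ => ?_⟩
  · rw [← sub_eq_zero] at h ⊢
    dsimp only at h
    rw [← Preadditive.comp_sub] at h
    obtain ⟨γ, hγ⟩ := Triangle.yoneda_exact₂ _ hT (β - β') h
    rw [hγ, hom_eq_zero J a hJ hc γ]
    exact comp_zero
  · obtain ⟨β, hβ⟩ := Triangle.yoneda_exact₂ _ (inv_rot_of_distTriang _ hT) γ (by
      have := ((QF).commShiftIso (-1 : ℤ)).app (CochainComplex.mappingCone α)
      rw [← cancel_epi this.hom]
      exact (hom_eq_zero J a hJ (isFilteredAcyclic_shift hc (-1)) _).trans comp_zero.symm)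
    exact ⟨β, hβ.symm⟩

end Groth.L10.Fil
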