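import Groth.Agent.L10.Fil.Basic
import Mathlib.Algebra.Homology.ShortComplex.FunctorEquivalence
import Mathlib.CategoryTheory.Limits.Preserves.Shapes.Kernels

/-! Exactness on the levels from exactness on the graded pieces. -/

universe v u

open CategoryTheory CategoryTheory.Limits Opposite

set_option backward.defeqAttrib.useBackward true
set_option backward.isDefEq.respectTransparency false
set_option backward.isDefEq.respectTransparency.types false
namespace Groth.L10.Fil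

variable {A : Type u} [Category.{v} A] [Abelian A]

/-- A level of a filtered object, as a functor. -/
abbrev lev (A : Type u) [Category.{v} A] [Abelian A] (p : ℤ) : (ℤᵒᵖ ⥤ A) ⥤ A := (evaluation ℤᵒᵖ A).obj (op p)

/-- A level of a finite filtered object, as a functor. -/
abbrev levF (A : Type u) [Category.{v} A] [Abelian A] (p : ℤ) : FilD.FilF A ⥤ A := (FilD.IsFinFil A).ι ⋙ lev A p

theorem isZero_of_st {F : ℤᵒᵖ ⥤ A} {p : ℤ} (h : IsZero (F.obj (op (p + 1)))) (hg : IsZero ((FilD.gr A p).obj F)) :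
    IsZero (F.obj (op p)) :=
  (ShortComplex.exact_of_g_is_cokernel (ShortComplex.mk _ _ (st_toGr F p)) (cokernelIsCokernel _)).isZero_X₂
    (h.eq_of_src _ _) (hg.eq_of_tgt _ _)

/-- Downward induction on the levels. -/
theorem levels_induction {P : ℤ → Prop} (b : ℤ) (hb : ∀ p, b ≤ p → P p) (hs : ∀ p, P (p + 1) → P p) (p : ℤ) : P p := by
  suffices h : ∀ k : ℕ, ∀ p, b ≤ p + k → P p from h (b - p).toNat p (by omega)
  intro k
  induction k with
  | zero => exact fun p hp => hb p (by omega)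
  | succ k ih => exact fun p hp => hs p (ih (p + 1) (by omega))

/-- A bound above which three functors vanish. -/
theorem exists_bound (F G H : FilD.FilF A) : ∃ b : ℤ, ∀ p, b ≤ p →
    IsZero (F.obj.obj (op p)) ∧ IsZero (G.obj.obj (op p)) ∧ IsZero (H.obj.obj (op p)) := by
  obtain ⟨a, ha⟩ := F.property.2.1
  obtain ⟨b, hb⟩ := G.property.2.1
  obtain ⟨c, hc⟩ := H.property.2.1
  exact ⟨max a (max b c), fun p hp => ⟨ha p (by omega), hb p (by omega), hc p (by omega)⟩⟩

variable {S : ShortComplex (ℤᵒᵖ ⥤ A)} (hS : ∀ p : ℤ, (S.map (FilD.gr A p)).Exact)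

include hS in
/-- Lifting a cycle of a level to a boundary plus the next step. -/
theorem exists_decomp (p : ℤ) {T : A} (y : T ⟶ S.X₂.obj (op p)) (z : T ⟶ S.X₃.obj (op (p + 1)))
    (h : y ≫ S.g.app (op p) = z ≫ st S.X₃ p) :
    ∃ (T' : A) (π : T' ⟶ T) (_ : Epi π) (x : T' ⟶ S.X₁.obj (op p)) (w : T' ⟶ S.X₂.obj (op (p + 1))),
      π ≫ y = x ≫ S.f.app (op p) + w ≫ st S.X₂ p := by
  obtain ⟨T₁, π₁, hπ₁, xb, hx⟩ := (hS p).exact_up_to_refinements (y ≫ toGr S.X₂ p) (by
    change (y ≫ toGr S.X₂ p) ≫ (FilD.gr A p).map S.g = 0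
    rw [Category.assoc, toGr_naturality, ← Category.assoc, h, Category.assoc, st_toGr, comp_zero])
  obtain ⟨T₂, π₂, hπ₂, x, hx₂⟩ := surjective_up_to_refinements_of_epi (toGr S.X₁ p) xb
  have hd : (π₂ ≫ π₁ ≫ y - x ≫ S.f.app (op p)) ≫ toGr S.X₂ p = 0 := by
    rw [Preadditive.sub_comp, sub_eq_zero, Category.assoc x, ← toGr_naturality S.f p, ← Category.assoc x, ← hx₂,
      Category.assoc π₂ xb]
    exact (Category.assoc _ _ _).trans (congrArg (π₂ ≫ ·) ((Category.assoc _ _ _).trans hx))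
  obtain ⟨T₃, π₃, hπ₃, w, hw⟩ := exists_of_toGr_eq_zero S.X₂ p _ hd
  refine ⟨T₃, π₃ ≫ π₂ ≫ π₁, inferInstance, π₃ ≫ x, w, ?_⟩
  rw [Preadditive.comp_sub, sub_eq_iff_eq_add] at hw
  simp only [Category.assoc] at hw ⊢
  rw [hw, add_comm]

include hS in
/-- The second map satisfies the strictness condition. -/
theorem step_g (h₃ : ∀ p, Mono (st S.X₃ p)) : Step S.g := by
  intro p T x y h
  obtain ⟨T', π, hπ, x', w, hw⟩ := exists_decomp hS p x y h
  refine ⟨T', π, hπ, w, ?_⟩
  have : (π ≫ y) ≫ st S.X₃ p = (w ≫ S.g.app (op (p + 1))) ≫ st S.X₃ p := by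
    have h0 : S.f.app (op p) ≫ S.g.app (op p) = 0 := by rw [← NatTrans.comp_app, S.zero]; rfl
    rw [Category.assoc, ← h, ← Category.assoc, hw, Preadditive.add_comp, Category.assoc, h0, comp_zero, zero_add,
      Category.assoc, Category.assoc, st_naturality]
  have := h₃ p
  exact (cancel_mono (st S.X₃ p)).1 ‹_›

include hS in
/-- Exactness descends one step. -/
theorem exact_step (p : ℤ) (h₃ : Mono (st S.X₃ p)) (h : (S.map (lev A (p + 1))).Exact) : (S.map (lev A p)).Exact := by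
  rw [ShortComplex.exact_iff_exact_up_to_refinements]
  intro T y hy
  change y ≫ S.g.app (op p) = 0 at hy
  obtain ⟨T₁, π₁, hπ₁, x, w, hw⟩ := exists_decomp hS p y 0 (by rw [hy, zero_comp])
  have h0 : S.f.app (op p) ≫ S.g.app (op p) = 0 := by rw [← NatTrans.comp_app, S.zero]; rfl
  have hw0 : w ≫ S.g.app (op (p + 1)) = 0 := by
    have := h₃
    rw [← cancel_mono (st S.X₃ p), Category.assoc, ← st_naturality, zero_comp]
    have := congrArg (· ≫ S.g.app (op p)) hw
    simp only [Category.assoc, hy, comp_zero, Preadditive.add_comp, h0, zero_add] at this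
    exact this.symm
  obtain ⟨T₂, π₂, hπ₂, x', hx'⟩ := h.exact_up_to_refinements w hw0
  change π₂ ≫ w = x' ≫ S.f.app (op (p + 1)) at hx'
  refine ⟨T₂, π₂ ≫ π₁, epi_comp _ _, π₂ ≫ x + x' ≫ st S.X₁ p, ?_⟩
  change (π₂ ≫ π₁) ≫ y = _ ≫ S.f.app (op p)
  rw [Category.assoc, hw, Preadditive.comp_add, Preadditive.add_comp, Category.assoc x', st_naturality,
    reassoc_of% hx', Category.assoc]

/-- Exact levels from exact graded pieces, for finite filtered objects. -/
theorem exact_levels (T : ShortComplex (FilD.FilF A)) (hT : ∀ p : ℤ, (T.map (FilD.grF A p)).Exact) (p : ℤ) :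
    (T.map (levF A p)).Exact := by
  obtain ⟨b, hb⟩ := exists_bound T.X₁ T.X₂ T.X₃
  refine levels_induction b (fun p hp => ShortComplex.exact_of_isZero_X₂ _ (hb p hp).2.1)
    (fun p h => exact_step (S := T.map (FilD.IsFinFil A).ι) hT p (T.X₃.property.1 _) h) p

/-- Both maps are strict. -/
theorem strict_of_gr_exact (T : ShortComplex (FilD.FilF A)) (hT : ∀ p : ℤ, (T.map (FilD.grF A p)).Exact) :
    Strict T.f.hom ∧ Strict T.g.hom := by
  refine ⟨fun p q hpq U x y e => ?_,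
    strict_of_step (step_g (S := T.map (FilD.IsFinFil A).ι) hT (fun p => T.X₃.property.1 _))⟩
  have hy : y ≫ T.g.hom.app (op q) = 0 := by
    have hm : Mono (tr T.X₃.obj p q hpq) := T.X₃.property.1 _
    rw [← cancel_mono (tr T.X₃.obj p q hpq), Category.assoc, ← tr_naturality, ← Category.assoc, ← e, Category.assoc,
      zero_comp]
    have h0 : T.f.hom.app (op p) ≫ T.g.hom.app (op p) = 0 := by
      rw [← NatTrans.comp_app, ← ObjectProperty.FullSubcategory.comp_hom, T.zero]; rfl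
    rw [h0, comp_zero]
  exact (exact_levels T hT q).exact_up_to_refinements y hy

/-- Strictness is graded exactness at the kernel. -/
theorem strict_iff_gr_kernel_exact {X Y : FilD.FilF A} (φ : X ⟶ Y) :
    Strict φ.hom ↔ ∀ p : ℤ, ((ShortComplex.mk (kernel.ι φ.hom) φ.hom (kernel.condition φ.hom)).map (FilD.gr A p)).Exact := by
  refine ⟨fun h p => ?_, fun h => strict_of_step
    (step_g (S := ShortComplex.mk (kernel.ι φ.hom) φ.hom (kernel.condition φ.hom)) h (fun p => Y.property.1 _))⟩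
  rw [ShortComplex.exact_iff_exact_up_to_refinements]
  intro T xb hx
  change xb ≫ (FilD.gr A p).map φ.hom = 0 at hx
  obtain ⟨T₁, π₁, hπ₁, x, hx₁⟩ := surjective_up_to_refinements_of_epi (toGr X.obj p) xb
  have hφ : (x ≫ φ.hom.app (op p)) ≫ toGr Y.obj p = 0 := by
    rw [Category.assoc, ← toGr_naturality, ← Category.assoc, ← hx₁, Category.assoc, hx, comp_zero]
  obtain ⟨T₂, π₂, hπ₂, y, hy⟩ := exists_of_toGr_eq_zero Y.obj p _ hφ
  obtain ⟨T₃, π₃, hπ₃, z, hz⟩ := h.step p (π₂ ≫ x) y (by rw [Category.assoc, hy])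
  have hk : ((ShortComplex.mk (kernel.ι φ.hom) φ.hom (kernel.condition φ.hom)).map (lev A p)).Exact :=
    (ShortComplex.exact_of_f_is_kernel _ (kernelIsKernel φ.hom)).map (lev A p)
  obtain ⟨T₄, π₄, hπ₄, k, hk'⟩ := hk.exact_up_to_refinements (π₃ ≫ π₂ ≫ x - z ≫ st X.obj p) (by
    change (π₃ ≫ π₂ ≫ x - z ≫ st X.obj p) ≫ φ.hom.app (op p) = 0
    rw [Preadditive.sub_comp, sub_eq_zero, Category.assoc z, st_naturality, ← reassoc_of% hz, ← hy]
    simp only [Category.assoc])
  change π₄ ≫ _ = k ≫ (kernel.ι φ.hom).app (op p) at hk'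
  refine ⟨T₄, π₄ ≫ π₃ ≫ π₂ ≫ π₁, inferInstance, k ≫ toGr (kernel φ.hom) p, ?_⟩
  change (π₄ ≫ π₃ ≫ π₂ ≫ π₁) ≫ xb = (k ≫ toGr _ p) ≫ (FilD.gr A p).map (kernel.ι φ.hom)
  rw [Category.assoc k, toGr_naturality, ← Category.assoc k, ← hk']
  simp [hx₁]

end Groth.L10.Fil
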