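import Groth.Agent.L10.Fil.Complex
import Mathlib.Algebra.Homology.Embedding.CochainComplex
import Mathlib.Algebra.Homology.FullSubcategory

/-! Truncations of filtered complexes. -/

universe v u

open CategoryTheory CategoryTheory.Limits Opposite

set_option backward.defeqAttrib.useBackward true
set_option backward.isDefEq.respectTransparency false
set_option backward.isDefEq.respectTransparency.types false
namespace Groth.L10.Fil

variable {A : Type u} [Category.{v} A] [Abelian A]

/-- The underlying complex of functors. -/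
noncomputable abbrev Kι (K : CochainComplex (FilD.FilF A) ℤ) : CochainComplex (ℤᵒᵖ ⥤ A) ℤ :=
  ((FilD.IsFinFil A).ι.mapHomologicalComplex (ComplexShape.up ℤ)).obj K

theorem exactAt_of_lev {L : CochainComplex (ℤᵒᵖ ⥤ A) ℤ} {n : ℤ}
    (h : ∀ p : ℤ, (((lev A p).mapHomologicalComplex (ComplexShape.up ℤ)).obj L).ExactAt n) : L.ExactAt n := by
  rw [HomologicalComplex.exactAt_iff, ShortComplex.exact_iff_isZero_homology, Functor.isZero_iff]
  rintro ⟨p⟩
  have := h p
  rw [HomologicalComplex.exactAt_iff, ShortComplex.exact_iff_isZero_homology] at this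
  exact this.of_iso ((L.sc n).mapHomologyIso (lev A p)).symm

theorem isFinFil_cokernel {X Y : FilD.FilF A} (φ : X ⟶ Y) (h : Step φ.hom) :
    FilD.IsFinFil A (cokernel φ.hom) := by
  obtain ⟨a, ha⟩ := X.property.2.2
  obtain ⟨b, hb⟩ := Y.property.2.1
  obtain ⟨c, hc⟩ := Y.property.2.2
  have hπ : ∀ r, Epi ((cokernel.π φ.hom).app r) := fun r => (NatTrans.epi_iff_epi_app _).1 inferInstance r
  refine isFinFil_mk (monoTr_of_st fun p => Preadditive.mono_of_cancel_zero _ fun {T} z hz => ?_)
    ⟨b, fun p hp => IsZero.of_epi ((cokernel.π φ.hom).app (op p)) (hb p hp)⟩ ⟨min a c, fun r s f hr => ?_⟩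
  · obtain ⟨T₁, π₁, hπ₁, x, hx⟩ := surjective_up_to_refinements_of_epi ((cokernel.π φ.hom).app (op (p + 1))) z
    have he : ((ShortComplex.mk φ.hom (cokernel.π φ.hom) (cokernel.condition _)).map (lev A p)).Exact :=
      (ShortComplex.exact_of_g_is_cokernel _ (cokernelIsCokernel φ.hom)).map (lev A p)
    obtain ⟨T₂, π₂, hπ₂, y, hy⟩ := he.exact_up_to_refinements (x ≫ st Y.obj p) (by
      change (x ≫ st Y.obj p) ≫ (cokernel.π φ.hom).app (op p) = 0
      rw [Category.assoc, st_naturality, ← reassoc_of% hx, hz, comp_zero])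
    change π₂ ≫ _ = y ≫ φ.hom.app (op p) at hy
    obtain ⟨T₃, π₃, hπ₃, w, hw⟩ := h p y (π₂ ≫ x) (by rw [← hy, Category.assoc])
    rw [← cancel_epi π₁, ← cancel_epi π₂, ← cancel_epi π₃, comp_zero, comp_zero, comp_zero, hx, ← Category.assoc π₂,
      ← Category.assoc π₃, hw, Category.assoc, ← NatTrans.comp_app, cokernel.condition]
    exact comp_zero
  · have := ha f (by omega)
    have := hc f (by omega)
    have : Epi ((cokernel φ.hom).map f) := by
      have : Epi ((cokernel.π φ.hom).app r ≫ (cokernel φ.hom).map f) :=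
        (cokernel.π φ.hom).naturality f ▸ epi_comp _ _
      exact epi_of_epi ((cokernel.π φ.hom).app r) _
    have : Mono ((cokernel φ.hom).map f) := Preadditive.mono_of_cancel_zero _ fun {T} z hz => by
      obtain ⟨T₁, π₁, hπ₁, x, hx⟩ := surjective_up_to_refinements_of_epi ((cokernel.π φ.hom).app r) z
      have he : ((ShortComplex.mk φ.hom (cokernel.π φ.hom) (cokernel.condition _)).map ((evaluation ℤᵒᵖ A).obj s)).Exact :=
        (ShortComplex.exact_of_g_is_cokernel _ (cokernelIsCokernel φ.hom)).map _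
      obtain ⟨T₂, π₂, hπ₂, y, hy⟩ := he.exact_up_to_refinements (x ≫ Y.obj.map f) (by
        change (x ≫ Y.obj.map f) ≫ (cokernel.π φ.hom).app s = 0
        rw [Category.assoc, (cokernel.π φ.hom).naturality f, ← reassoc_of% hx, hz, comp_zero])
      change π₂ ≫ _ = y ≫ φ.hom.app s at hy
      have hxy : π₂ ≫ x = (y ≫ inv (X.obj.map f)) ≫ φ.hom.app r := by
        rw [← cancel_mono (Y.obj.map f), Category.assoc, hy, Category.assoc, ← φ.hom.naturality,
          Category.assoc, IsIso.inv_hom_id_assoc]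
      rw [← cancel_epi π₁, ← cancel_epi π₂, comp_zero, comp_zero, hx, ← Category.assoc π₂, hxy, Category.assoc,
        ← NatTrans.comp_app, cokernel.condition]
      exact comp_zero
    exact isIso_of_mono_of_epi _

/-- Lifting a complex of functors with finite filtered terms. -/
noncomputable def liftCx (L : CochainComplex (ℤᵒᵖ ⥤ A) ℤ) (hL : ∀ n, FilD.IsFinFil A (L.X n)) :
    CochainComplex (FilD.FilF A) ℤ := HomologicalComplex.liftObjectProperty _ L hL

theorem isStrictlyGE_liftCx (L : CochainComplex (ℤᵒᵖ ⥤ A) ℤ) (hL : ∀ n, FilD.IsFinFil A (L.X n)) (a : ℤ)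
    [L.IsStrictlyGE a] : (liftCx L hL).IsStrictlyGE a := by
  rw [CochainComplex.isStrictlyGE_iff]
  intro i hi
  exact (IsZero.iff_id_eq_zero _).2 (ObjectProperty.hom_ext _ ((CochainComplex.isZero_of_isStrictlyGE L a i hi).eq_of_src _ _))

theorem isStrictlyLE_liftCx (L : CochainComplex (ℤᵒᵖ ⥤ A) ℤ) (hL : ∀ n, FilD.IsFinFil A (L.X n)) (b : ℤ)
    [L.IsStrictlyLE b] : (liftCx L hL).IsStrictlyLE b := by
  rw [CochainComplex.isStrictlyLE_iff]
  intro i hi
  exact (IsZero.iff_id_eq_zero _).2 (ObjectProperty.hom_ext _ ((CochainComplex.isZero_of_isStrictlyLE L b i hi).eq_of_src _ _))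

theorem isFilteredQuasiIso_of_quasiIso {K L : CochainComplex (FilD.FilF A) ℤ} (φ : K ⟶ L)
    [QuasiIso (((FilD.IsFinFil A).ι.mapHomologicalComplex (ComplexShape.up ℤ)).map φ)] :
    FilD.IsFilteredQuasiIso φ :=
  (isFilteredQuasiIso_iff φ).2 fun p => inferInstanceAs (QuasiIso (((lev A p).mapHomologicalComplex (ComplexShape.up ℤ)).map
    (((FilD.IsFinFil A).ι.mapHomologicalComplex (ComplexShape.up ℤ)).map φ)))

/-- Truncation below. -/
theorem exists_truncGE (K : CochainComplex (FilD.FilF A) ℤ) (a : ℤ)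
    (hK : ∀ (p n : ℤ), n < a → ((FilD.grCx p).obj K).ExactAt n) :
    ∃ (L : CochainComplex (FilD.FilF A) ℤ) (φ : K ⟶ L), L.IsStrictlyGE a ∧ FilD.IsFilteredQuasiIso φ := by
  have : (Kι K).IsGE a := (CochainComplex.isGE_iff _ a).2 fun n hn =>
    exactAt_of_lev fun p => exactAt_lev (fun q => hK q n hn) p
  have hX : ∀ n, FilD.IsFinFil A (((Kι K).truncGE a).X n) := fun n => by
    rcases lt_trichotomy n a with hn | rfl | hn
    · exact isFinFil_of_isZero (CochainComplex.isZero_of_isStrictlyGE _ a n hn)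
    · refine (FilD.IsFinFil A).prop_of_iso ?_ (isFinFil_cokernel (K.d (n - 1) n)
        (strict_of_gr_exact (K.sc' (n - 1 - 1) (n - 1) n) (fun q => by
          have := hK q (n - 1) (by omega)
          rw [HomologicalComplex.exactAt_iff' _ (n - 1 - 1) (n - 1) n (by simp) (by simp)] at this
          exact this)).2.step)
      exact (IsColimit.coconePointUniqueUpToIso ((Kι K).opcyclesIsCokernel (n - 1) n (by simp)) (cokernelIsCokernel _)).symm ≪≫
        (CochainComplex.truncGEXIsoOpcycles (Kι K) n).symm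
    · exact (FilD.IsFinFil A).prop_of_iso (CochainComplex.truncGEXIso (Kι K) a n hn).symm (K.X n).property
  let φ : K ⟶ liftCx _ hX :=
    { f := fun n => ObjectProperty.homMk (((Kι K).πTruncGE a).f n)
      comm' := fun i j _ => ObjectProperty.hom_ext _ (((Kι K).πTruncGE a).comm i j) }
  have : QuasiIso (((FilD.IsFinFil A).ι.mapHomologicalComplex (ComplexShape.up ℤ)).map φ) :=
    (CochainComplex.quasiIso_πTruncGE_iff (Kι K) a).2 inferInstance
  exact ⟨_, φ, isStrictlyGE_liftCx _ hX a, isFilteredQuasiIso_of_quasiIso φ⟩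

/-- Truncation above. -/
theorem exists_truncLE (K : CochainComplex (FilD.FilF A) ℤ) (b : ℤ)
    (hK : ∀ (p n : ℤ), b < n → ((FilD.grCx p).obj K).ExactAt n) :
    ∃ (M : CochainComplex (FilD.FilF A) ℤ) (φ : M ⟶ K), M.IsStrictlyLE b ∧ FilD.IsFilteredQuasiIso φ := by
  have : (Kι K).IsLE b := (CochainComplex.isLE_iff _ b).2 fun n hn =>
    exactAt_of_lev fun p => exactAt_lev (fun q => hK q n hn) p
  have hX : ∀ n, FilD.IsFinFil A (((Kι K).truncLE b).X n) := fun n => by
    rcases lt_trichotomy n b with hn | rfl | hn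
    · exact (FilD.IsFinFil A).prop_of_iso (CochainComplex.truncLEXIso (Kι K) b n hn).symm (K.X n).property
    · refine (FilD.IsFinFil A).prop_of_iso ?_ (isFinFil_kernel (K.d n (n + 1)).hom (K.X n).property (K.X (n + 1)).property.2.2)
      exact (IsLimit.conePointUniqueUpToIso ((Kι K).cyclesIsKernel n (n + 1) (by simp)) (kernelIsKernel _)).symm ≪≫
        (CochainComplex.truncLEXIsoCycles (Kι K) n).symm
    · exact isFinFil_of_isZero (CochainComplex.isZero_of_isStrictlyLE _ b n hn)
  let φ : liftCx _ hX ⟶ K :=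
    { f := fun n => ObjectProperty.homMk (((Kι K).ιTruncLE b).f n)
      comm' := fun i j _ => ObjectProperty.hom_ext _ (((Kι K).ιTruncLE b).comm i j) }
  have : QuasiIso (((FilD.IsFinFil A).ι.mapHomologicalComplex (ComplexShape.up ℤ)).map φ) :=
    (CochainComplex.quasiIso_ιTruncLE_iff (Kι K) b).2 inferInstance
  exact ⟨_, φ, isStrictlyLE_liftCx _ hX b, isFilteredQuasiIso_of_quasiIso φ⟩

end Groth.L10.Fil
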