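import Groth.Agent.L10.Fil.Embed
import Groth.Agent.L10.Fil.Trunc
import Mathlib.Algebra.Homology.Refinements
import Mathlib.Algebra.Homology.Embedding.HomEquiv
import Mathlib.Algebra.Homology.Embedding.StupidTrunc
import Mathlib.Algebra.Homology.Embedding.ExtendHomology

/-! Filtered injective resolutions of bounded below filtered complexes. -/

universe v u

open CategoryTheory CategoryTheory.Limits Opposite

set_option backward.defeqAttrib.useBackward true
set_option backward.isDefEq.respectTransparency false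
set_option backward.isDefEq.respectTransparency.types false
namespace Groth.L10.Fil

variable {A : Type u} [Category.{v} A] [Abelian A]

/-- Being a filtered injective object. -/
def Good : ObjectProperty (ℤᵒᵖ ⥤ A) :=
  fun F => FilD.IsFinFil A F ∧ ∀ p : ℤ, Injective ((FilD.gr A p).obj F)

instance : (Good (A := A)).IsClosedUnderIsomorphisms :=
  ⟨fun e h => ⟨(FilD.IsFinFil A).prop_of_iso e h.1, fun p => Injective.of_iso ((FilD.gr A p).mapIso e) (h.2 p)⟩⟩

theorem good_of_isZero {F : ℤᵒᵖ ⥤ A} (h : IsZero F) : Good F :=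
  ⟨isFinFil_of_isZero h, fun p => ((FilD.gr A p).map_isZero h).injective⟩

theorem isoBot_cokernel {F G : ℤᵒᵖ ⥤ A} (φ : F ⟶ G) (hF : IsoBot F) (hG : IsoBot G) : IsoBot (cokernel φ) := by
  obtain ⟨a, ha⟩ := hF
  obtain ⟨c, hc⟩ := hG
  refine ⟨min a c, fun r s f hr => ?_⟩
  have := ha f (by omega)
  have := hc f (by omega)
  have hπ : ∀ r, Epi ((cokernel.π φ).app r) := fun r => (NatTrans.epi_iff_epi_app _).1 inferInstance r
  have : Epi ((cokernel φ).map f) := by
    have : Epi ((cokernel.π φ).app r ≫ (cokernel φ).map f) := (cokernel.π φ).naturality f ▸ epi_comp _ _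
    exact epi_of_epi ((cokernel.π φ).app r) _
  have : Mono ((cokernel φ).map f) := Preadditive.mono_of_cancel_zero _ fun {T} z hz => by
    obtain ⟨T₁, π₁, hπ₁, x, hx⟩ := surjective_up_to_refinements_of_epi ((cokernel.π φ).app r) z
    have he : ((ShortComplex.mk φ (cokernel.π φ) (cokernel.condition _)).map ((evaluation ℤᵒᵖ A).obj s)).Exact :=
      (ShortComplex.exact_of_g_is_cokernel _ (cokernelIsCokernel φ)).map _
    obtain ⟨T₂, π₂, hπ₂, y, hy⟩ := he.exact_up_to_refinements (x ≫ G.map f) (by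
      change (x ≫ G.map f) ≫ (cokernel.π φ).app s = 0
      rw [Category.assoc, (cokernel.π φ).naturality f, ← reassoc_of% hx, hz, comp_zero])
    change π₂ ≫ _ = y ≫ φ.app s at hy
    have hxy : π₂ ≫ x = (y ≫ inv (F.map f)) ≫ φ.app r := by
      rw [← cancel_mono (G.map f), Category.assoc, hy, Category.assoc, ← φ.naturality, Category.assoc,
        IsIso.inv_hom_id_assoc]
    rw [← cancel_epi π₁, ← cancel_epi π₂, comp_zero, comp_zero, hx, ← Category.assoc π₂, hxy, Category.assoc,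
      ← NatTrans.comp_app, cokernel.condition]
    exact comp_zero
  exact isIso_of_mono_of_epi _

theorem isoBot_biprod {F G : ℤᵒᵖ ⥤ A} (hF : IsoBot F) (hG : IsoBot G) : IsoBot (F ⊞ G) := by
  obtain ⟨a, ha⟩ := hF
  obtain ⟨c, hc⟩ := hG
  refine ⟨min a c, fun r s f hr => ?_⟩
  have := ha f (by omega)
  have := hc f (by omega)
  have htot : ∀ r : ℤᵒᵖ, (biprod.fst : F ⊞ G ⟶ F).app r ≫ (biprod.inl : F ⟶ F ⊞ G).app r +
      (biprod.snd : F ⊞ G ⟶ G).app r ≫ (biprod.inr : G ⟶ F ⊞ G).app r = 𝟙 _ := fun r => by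
    rw [← NatTrans.comp_app, ← NatTrans.comp_app, ← NatTrans.app_add, biprod.total]; rfl
  refine ⟨(biprod.fst : F ⊞ G ⟶ F).app s ≫ inv (F.map f) ≫ (biprod.inl : F ⟶ F ⊞ G).app r +
    (biprod.snd : F ⊞ G ⟶ G).app s ≫ inv (G.map f) ≫ (biprod.inr : G ⟶ F ⊞ G).app r, ?_, ?_⟩
  · rw [Preadditive.comp_add, NatTrans.naturality_assoc, IsIso.hom_inv_id_assoc, NatTrans.naturality_assoc,
      IsIso.hom_inv_id_assoc, htot]
  · rw [Preadditive.add_comp, Category.assoc, Category.assoc, ← NatTrans.naturality, IsIso.inv_hom_id_assoc,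
      Category.assoc, Category.assoc, ← NatTrans.naturality, IsIso.inv_hom_id_assoc, htot]

theorem biprod_zeroTop {F G : ℤᵒᵖ ⥤ A} (hF : ZeroTop F) (hG : ZeroTop G) : ZeroTop (F ⊞ G) := by
  obtain ⟨b, hb⟩ := hF
  obtain ⟨c, hc⟩ := hG
  refine ⟨max b c, fun p hp => (IsZero.iff_id_eq_zero _).2 ?_⟩
  change (𝟙 (F ⊞ G) : F ⊞ G ⟶ F ⊞ G).app (op p) = 0
  rw [← biprod.total, NatTrans.app_add, NatTrans.comp_app, NatTrans.comp_app,
    (hb p (by omega)).eq_of_tgt ((biprod.fst : F ⊞ G ⟶ F).app (op p)) 0,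
    (hc p (by omega)).eq_of_tgt ((biprod.snd : F ⊞ G ⟶ G).app (op p)) 0]
  simp

variable (K : CochainComplex (ℤᵒᵖ ⥤ A) ℕ) (hK : ∀ k, FilD.IsFinFil A (K.X k))

/-- The map presenting the next object. -/
noncomputable abbrev pres {k : ℕ} {C : ℤᵒᵖ ⥤ A} (ψ : K.X k ⟶ C) : ℤᵒᵖ ⥤ A :=
  cokernel (biprod.lift ψ (-K.d k (k + 1)))

/-- The first coprojection. -/
noncomputable abbrev presInl {k : ℕ} {C : ℤᵒᵖ ⥤ A} (ψ : K.X k ⟶ C) : C ⟶ pres K ψ :=
  biprod.inl ≫ cokernel.π _

/-- The second coprojection. -/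
noncomputable abbrev presInr {k : ℕ} {C : ℤᵒᵖ ⥤ A} (ψ : K.X k ⟶ C) : K.X (k + 1) ⟶ pres K ψ :=
  biprod.inr ≫ cokernel.π _

theorem pres_condition {k : ℕ} {C : ℤᵒᵖ ⥤ A} (ψ : K.X k ⟶ C) :
    ψ ≫ presInl K ψ = K.d k (k + 1) ≫ presInr K ψ := by
  rw [← sub_eq_zero]
  refine Eq.trans ?_ (cokernel.condition (biprod.lift ψ (-K.d k (k + 1))))
  simp only [presInl, presInr, ← Category.assoc, ← Preadditive.sub_comp]
  congr 1
  apply biprod.hom_ext <;> simp

theorem pres_refine {k : ℕ} {C : ℤᵒᵖ ⥤ A} (ψ : K.X k ⟶ C) {T : ℤᵒᵖ ⥤ A} (y : T ⟶ C) (z : T ⟶ K.X (k + 1))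
    (h : y ≫ presInl K ψ = z ≫ presInr K ψ) :
    ∃ (T' : ℤᵒᵖ ⥤ A) (π : T' ⟶ T) (_ : Epi π) (w : T' ⟶ K.X k), π ≫ y = w ≫ ψ ∧ π ≫ z = w ≫ K.d k (k + 1) := by
  obtain ⟨T', π, hπ, w, hw⟩ := ((ShortComplex.mk _ _ (cokernel.condition (biprod.lift ψ (-K.d k (k + 1))))).exact_of_g_is_cokernel
    (cokernelIsCokernel _)).exact_up_to_refinements (biprod.lift y (-z)) (by
      change biprod.lift y (-z) ≫ cokernel.π _ = 0
      rw [← Category.id_comp (cokernel.π (biprod.lift ψ (-K.d k (k + 1)))), ← biprod.total]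
      simp only [Preadditive.comp_add, Preadditive.add_comp, Category.assoc, biprod.lift_fst_assoc, biprod.lift_snd_assoc]
      change y ≫ presInl K ψ + (-z) ≫ presInr K ψ = 0
      rw [h, Preadditive.neg_comp, add_neg_cancel])
  refine ⟨T', π, hπ, w, ?_, ?_⟩
  · have := congrArg (fun f => f ≫ biprod.fst) hw
    simpa using this
  · have := congrArg (fun f => f ≫ biprod.snd) hw
    simpa using this

/-- Elementwise description of the kernel of the presentation at a level. -/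
theorem pres_refine_lev {k : ℕ} {C : ℤᵒᵖ ⥤ A} (ψ : K.X k ⟶ C) (p : ℤ) {T : A} (y : T ⟶ C.obj (op p))
    (z : T ⟶ (K.X (k + 1)).obj (op p)) (h : y ≫ (presInl K ψ).app (op p) + z ≫ (presInr K ψ).app (op p) = 0) :
    ∃ (T' : A) (π : T' ⟶ T) (_ : Epi π) (w : T' ⟶ (K.X k).obj (op p)),
      π ≫ y = w ≫ ψ.app (op p) ∧ π ≫ z = -(w ≫ (K.d k (k + 1)).app (op p)) := by
  have he : ((ShortComplex.mk _ _ (cokernel.condition (biprod.lift ψ (-K.d k (k + 1))))).map (lev A p)).Exact :=
    ((ShortComplex.mk _ _ (cokernel.condition (biprod.lift ψ (-K.d k (k + 1))))).exact_of_g_is_cokernel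
      (cokernelIsCokernel _)).map (lev A p)
  obtain ⟨T', π, hπ, w, hw⟩ := he.exact_up_to_refinements
    (y ≫ (biprod.inl : C ⟶ C ⊞ K.X (k + 1)).app (op p) + z ≫ (biprod.inr : _ ⟶ C ⊞ K.X (k + 1)).app (op p)) (by
      change (_ + _) ≫ (cokernel.π (biprod.lift ψ (-K.d k (k + 1)))).app (op p) = 0
      rw [Preadditive.add_comp, Category.assoc, Category.assoc, ← NatTrans.comp_app, ← NatTrans.comp_app]
      exact h)
  change π ≫ _ = w ≫ (biprod.lift ψ (-K.d k (k + 1))).app (op p) at hw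
  refine ⟨T', π, hπ, w, ?_, ?_⟩
  · have := congrArg (fun f => f ≫ (biprod.fst : C ⊞ K.X (k + 1) ⟶ C).app (op p)) hw
    simp only [Preadditive.comp_add, Preadditive.add_comp, Category.assoc, ← NatTrans.comp_app] at this
    simpa using this
  · have := congrArg (fun f => f ≫ (biprod.snd : C ⊞ K.X (k + 1) ⟶ K.X (k + 1)).app (op p)) hw
    simp only [Preadditive.comp_add, Preadditive.add_comp, Category.assoc, ← NatTrans.comp_app] at this
    simpa using this

/-- Splitting an element of the presentation at a level. -/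
theorem pres_decomp_lev {k : ℕ} {C : ℤᵒᵖ ⥤ A} (ψ : K.X k ⟶ C) (p : ℤ) {T : A} (z : T ⟶ (pres K ψ).obj (op p)) :
    ∃ (T' : A) (π : T' ⟶ T) (_ : Epi π) (c : T' ⟶ C.obj (op p)) (x : T' ⟶ (K.X (k + 1)).obj (op p)),
      π ≫ z = c ≫ (presInl K ψ).app (op p) + x ≫ (presInr K ψ).app (op p) := by
  have hepi : Epi ((cokernel.π (biprod.lift ψ (-K.d k (k + 1)))).app (op p)) :=
    (NatTrans.epi_iff_epi_app _).1 inferInstance _
  obtain ⟨T', π, hπ, v, hv⟩ := surjective_up_to_refinements_of_epi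
    ((cokernel.π (biprod.lift ψ (-K.d k (k + 1)))).app (op p)) z
  refine ⟨T', π, hπ, v ≫ (biprod.fst : C ⊞ K.X (k + 1) ⟶ C).app (op p),
    v ≫ (biprod.snd : C ⊞ K.X (k + 1) ⟶ K.X (k + 1)).app (op p), ?_⟩
  have h := congrArg (fun η : C ⊞ K.X (k + 1) ⟶ C ⊞ K.X (k + 1) =>
    v ≫ η.app (op p) ≫ (cokernel.π (biprod.lift ψ (-K.d k (k + 1)))).app (op p)) biprod.total
  simp only [NatTrans.app_add, NatTrans.comp_app, NatTrans.id_app, Preadditive.add_comp, Preadditive.comp_add,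
    Category.id_comp, Category.assoc] at h
  simp only [presInl, presInr, NatTrans.comp_app, Category.assoc]
  rw [hv, ← h]

/-- When the presentation has injective transition maps. -/
theorem monoTr_pres {k : ℕ} {C : ℤᵒᵖ ⥤ A} (ψ : K.X k ⟶ C)
    (h : ∀ (p : ℤ) ⦃T : A⦄ (c : T ⟶ C.obj (op (p + 1))) (x : T ⟶ (K.X (k + 1)).obj (op (p + 1)))
      (w : T ⟶ (K.X k).obj (op p)), c ≫ st C p = w ≫ ψ.app (op p) →
      x ≫ st (K.X (k + 1)) p = -(w ≫ (K.d k (k + 1)).app (op p)) →
      ∃ (T' : A) (π : T' ⟶ T) (_ : Epi π) (w' : T' ⟶ (K.X k).obj (op (p + 1))),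
        π ≫ c = w' ≫ ψ.app (op (p + 1)) ∧ π ≫ x = -(w' ≫ (K.d k (k + 1)).app (op (p + 1)))) :
    MonoTr (pres K ψ) := by
  refine monoTr_of_st fun p => Preadditive.mono_of_cancel_zero _ fun {T} z hz => ?_
  obtain ⟨T₁, π₁, hπ₁, c, x, hv⟩ := pres_decomp_lev K ψ (p + 1) z
  obtain ⟨T₂, π₂, hπ₂, w, hw₁, hw₂⟩ := pres_refine_lev K ψ p (c ≫ st C p) (x ≫ st (K.X (k + 1)) p) (by
    have h0 := congrArg (· ≫ st (pres K ψ) p) hv
    simp only [Category.assoc, hz, comp_zero, Preadditive.add_comp] at h0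
    rw [Category.assoc, Category.assoc, st_naturality, st_naturality]
    exact h0.symm)
  obtain ⟨T₃, π₃, hπ₃, w', hc, hx⟩ := h p (π₂ ≫ c) (π₂ ≫ x) w (by rw [Category.assoc, hw₁]) (by rw [Category.assoc, hw₂])
  rw [← cancel_epi π₁, ← cancel_epi π₂, ← cancel_epi π₃, comp_zero, comp_zero, comp_zero, hv, Preadditive.comp_add,
    Preadditive.comp_add, reassoc_of% hc, reassoc_of% hx, Preadditive.neg_comp, Category.assoc,
    ← sub_eq_add_neg, sub_eq_zero, ← NatTrans.comp_app, ← NatTrans.comp_app]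
  exact congrArg (fun η => w' ≫ η.app (op (p + 1))) (pres_condition K ψ)

/-- The induction step for injectivity of the transition maps. -/
theorem monoTr_pres_next (hd : ∀ k, ∀ p, Mono (st (K.X k) p)) {k : ℕ} {L C L' C' : ℤᵒᵖ ⥤ A} (ψ : K.X k ⟶ C)
    (π : L ⟶ C) [Epi π] (e : pres K ψ ⟶ L') (he : ∀ p, Mono (e.app (op p))) (hes : Step e) (δ : L ⟶ L')
    (hδ : δ = π ≫ presInl K ψ ≫ e) (q : L' ⟶ C') [Epi q] (hq : δ ≫ q = 0) (hex : (ShortComplex.mk δ q hq).Exact)
    (φ : K.X (k + 1) ⟶ L') (hφ : φ = presInr K ψ ≫ e) : MonoTr (pres K (φ ≫ q)) := by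
  subst hδ hφ
  refine monoTr_pres K _ fun p T c x w hw₁ hw₂ => ?_
  have : Epi (q.app (op (p + 1))) := (NatTrans.epi_iff_epi_app _).1 inferInstance _
  obtain ⟨T₁, π₁, hπ₁, l, hl⟩ := surjective_up_to_refinements_of_epi (q.app (op (p + 1))) c
  obtain ⟨T₂, π₂, hπ₂, m, hm⟩ := (hex.map (lev A p)).exact_up_to_refinements
    (l ≫ st L' p - π₁ ≫ w ≫ (presInr K ψ ≫ e).app (op p)) (by
      change (_ - _) ≫ q.app (op p) = 0
      simp only [Preadditive.sub_comp, Category.assoc, st_naturality, ← reassoc_of% hl, hw₁, NatTrans.comp_app]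
      exact sub_self _)
  change π₂ ≫ _ = m ≫ (π ≫ presInl K ψ ≫ e).app (op p) at hm
  let zP := m ≫ π.app (op p) ≫ (presInl K ψ).app (op p) + π₂ ≫ π₁ ≫ w ≫ (presInr K ψ).app (op p)
  have hzP : zP ≫ e.app (op p) = (π₂ ≫ l) ≫ st L' p := by
    simp only [NatTrans.comp_app, Preadditive.comp_sub, Category.assoc] at hm
    simp only [zP, Preadditive.add_comp, NatTrans.comp_app, Category.assoc]
    rw [← hm, sub_add_cancel]
  obtain ⟨T₃, π₃, hπ₃, z', hz'⟩ := hes p zP (π₂ ≫ l) hzP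
  have hze : π₃ ≫ zP = z' ≫ st (pres K ψ) p := by
    have := he p
    rw [← cancel_mono (e.app (op p)), Category.assoc, hzP, Category.assoc z', st_naturality, ← reassoc_of% hz']
    simp only [Category.assoc]
  obtain ⟨T₄, π₄, hπ₄, c₁, x₁, hv⟩ := pres_decomp_lev K ψ (p + 1) z'
  have : Epi (π.app (op (p + 1))) := (NatTrans.epi_iff_epi_app _).1 inferInstance _
  obtain ⟨T₅, π₅, hπ₅, m₁, hm₁⟩ := surjective_up_to_refinements_of_epi (π.app (op (p + 1))) c₁
  have h0 : π.app (op (p + 1)) ≫ (presInl K ψ).app (op (p + 1)) ≫ e.app (op (p + 1)) ≫ q.app (op (p + 1)) = 0 := by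
    have := congrArg (fun η => η.app (op (p + 1))) hq
    simpa using this
  have hc : π₅ ≫ π₄ ≫ π₃ ≫ π₂ ≫ π₁ ≫ c = (π₅ ≫ x₁) ≫ ((presInr K ψ ≫ e) ≫ q).app (op (p + 1)) := by
    rw [hl, reassoc_of% hz', reassoc_of% hv, Preadditive.add_comp, Preadditive.comp_add, Category.assoc c₁,
      reassoc_of% hm₁, h0, comp_zero, zero_add]
    simp only [NatTrans.comp_app, Category.assoc]
  obtain ⟨T₆, π₆, hπ₆, u, hu₁, hu₂⟩ := pres_refine_lev K ψ p
    (π₅ ≫ π₄ ≫ π₃ ≫ m ≫ π.app (op p) - π₅ ≫ c₁ ≫ st C p)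
    (π₅ ≫ π₄ ≫ π₃ ≫ π₂ ≫ π₁ ≫ w - π₅ ≫ x₁ ≫ st (K.X (k + 1)) p) (by
      have h1 := congrArg (fun t => π₅ ≫ π₄ ≫ t) hze
      have h2 := congrArg (fun t => π₅ ≫ t ≫ st (pres K ψ) p) hv
      simp only [zP, Preadditive.comp_add, Category.assoc] at h1 h2
      rw [Preadditive.add_comp, Preadditive.comp_add] at h2
      simp only [Category.assoc] at h2
      simp only [Preadditive.sub_comp, Category.assoc, st_naturality]
      rw [sub_add_sub_comm, h1, h2, sub_self])
  have hx : π₆ ≫ π₅ ≫ π₄ ≫ π₃ ≫ π₂ ≫ π₁ ≫ x = -((π₆ ≫ π₅ ≫ x₁) ≫ (K.d (k + 1) (k + 1 + 1)).app (op (p + 1))) := by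
    have := hd (k + 1 + 1) p
    have hdd : (K.d k (k + 1)).app (op p) ≫ (K.d (k + 1) (k + 1 + 1)).app (op p) = 0 := by
      rw [← NatTrans.comp_app, K.d_comp_d]; rfl
    have h3 := congrArg (· ≫ (K.d (k + 1) (k + 1 + 1)).app (op p)) hu₂
    simp only [Preadditive.comp_sub, Preadditive.sub_comp, Preadditive.neg_comp, Category.assoc, hdd, comp_zero, neg_zero,
      sub_eq_zero] at h3
    rw [← cancel_mono (st (K.X (k + 1 + 1)) p)]
    simp only [Category.assoc, Preadditive.neg_comp, ← st_naturality]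
    rw [← h3, hw₂]
    simp only [Preadditive.comp_neg]
  refine ⟨T₆, π₆ ≫ π₅ ≫ π₄ ≫ π₃ ≫ π₂ ≫ π₁, inferInstance, π₆ ≫ π₅ ≫ x₁, ?_, ?_⟩
  · simp only [Category.assoc, hc]
  · simpa only [Category.assoc] using hx

/-- The first step for injectivity of the transition maps. -/
theorem monoTr_pres_first (hd : ∀ p, Mono (st (K.X (0 + 1)) p)) {L : ℤᵒᵖ ⥤ A} (e : K.X 0 ⟶ L)
    (he : ∀ p, Mono (e.app (op p))) (hes : Step e) (ψ : K.X 0 ⟶ L) (hψ : ψ = e) : MonoTr (pres K ψ) := by
  subst hψ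
  refine monoTr_pres K _ fun p T c x w hw₁ hw₂ => ?_
  obtain ⟨T', π, hπ, w', hw'⟩ := hes p w c hw₁.symm
  have := he p
  have := hd p
  have hww : π ≫ w = w' ≫ st (K.X 0) p := by
    rw [← cancel_mono (ψ.app (op p)), Category.assoc, ← hw₁, Category.assoc w', st_naturality, ← reassoc_of% hw']
  refine ⟨T', π, hπ, w', hw', ?_⟩
  rw [← cancel_mono (st (K.X (0 + 1)) p), Category.assoc, hw₂, Preadditive.comp_neg, reassoc_of% hww,
    Preadditive.neg_comp, Category.assoc, st_naturality]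

/-- The data of the resolution in degree `k`. -/
structure Stage (k : ℕ) where
  L : FilD.FilF A
  inj : FilD.IsFilteredInjective L
  C : ℤᵒᵖ ⥤ A
  π : L.obj ⟶ C
  φ : K.X k ⟶ L.obj
  mono : Mono φ
  hker : ∀ ⦃T : ℤᵒᵖ ⥤ A⦄ (x : T ⟶ K.X k), x ≫ φ ≫ π = 0 → x ≫ K.d k (k + 1) = 0
  epi : Epi π
  isoBot : IsoBot C
  monoTr : MonoTr (pres K (φ ≫ π))

include hK in
theorem isFinFil_pres {k : ℕ} (S : Stage K k) : FilD.IsFinFil A (pres K (S.φ ≫ S.π)) := by
  have := S.epi
  refine isFinFil_mk S.monoTr ?_ (isoBot_cokernel _ (hK k).2.2 (isoBot_biprod S.isoBot (hK (k + 1)).2.2))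
  have hC : ZeroTop S.C := by
    obtain ⟨b, hb⟩ := S.L.property.2.1
    exact ⟨b, fun p hp => @IsZero.of_epi _ _ _ _ _ (S.π.app (op p)) ((NatTrans.epi_iff_epi_app _).1 inferInstance _) (hb p hp)⟩
  obtain ⟨b, hb⟩ := biprod_zeroTop hC (hK (k + 1)).2.1
  exact ⟨b, fun p hp => @IsZero.of_epi _ _ _ _ _ ((cokernel.π (biprod.lift (S.φ ≫ S.π) (-K.d k (k + 1)))).app (op p))
    ((NatTrans.epi_iff_epi_app _).1 inferInstance _) (hb p hp)⟩

variable [EnoughInjectives A]

/-- The filtered injective receiving an object. -/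
noncomputable def envL (P : ℤᵒᵖ ⥤ A) (hP : FilD.IsFinFil A P) : FilD.FilF A := (exists_strictMono ⟨P, hP⟩).choose

/-- The embedding. -/
noncomputable def emb (P : ℤᵒᵖ ⥤ A) (hP : FilD.IsFinFil A P) : P ⟶ (envL P hP).obj :=
  (exists_strictMono ⟨P, hP⟩).choose_spec.choose.hom

theorem emb_spec (P : ℤᵒᵖ ⥤ A) (hP : FilD.IsFinFil A P) :
    FilD.IsFilteredInjective (envL P hP) ∧ (∀ p : ℤ, Mono ((emb P hP).app (op p))) ∧ Strict (emb P hP) :=
  (exists_strictMono ⟨P, hP⟩).choose_spec.choose_spec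

instance (P : ℤᵒᵖ ⥤ A) (hP : FilD.IsFinFil A P) : Mono (emb P hP) :=
  (NatTrans.mono_iff_mono_app _).2 fun c => (emb_spec P hP).2.1 c.unop

/-- The next differential. -/
noncomputable abbrev Stage.δ {k : ℕ} (S : Stage K k) :
    S.L.obj ⟶ (envL _ (isFinFil_pres K hK S)).obj :=
  S.π ≫ presInl K (S.φ ≫ S.π) ≫ emb _ _

/-- The next map. -/
noncomputable abbrev Stage.φ' {k : ℕ} (S : Stage K k) :
    K.X (k + 1) ⟶ (envL _ (isFinFil_pres K hK S)).obj :=
  presInr K (S.φ ≫ S.π) ≫ emb _ _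

theorem next_monoTr {k : ℕ} (S : Stage K k) :
    MonoTr (pres K (S.φ' K hK ≫ cokernel.π (S.δ K hK))) := by
  have := S.epi
  have hinj := emb_spec _ (isFinFil_pres K hK S)
  exact monoTr_pres_next K (fun k p => (hK k).1 _) (S.φ ≫ S.π) S.π (emb _ (isFinFil_pres K hK S)) hinj.2.1 hinj.2.2.step
    (S.δ K hK) rfl (cokernel.π (S.δ K hK)) (cokernel.condition _)
    ((ShortComplex.mk _ _ (cokernel.condition (S.δ K hK))).exact_of_g_is_cokernel (cokernelIsCokernel _)) (S.φ' K hK) rfl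

/-- The next stage. -/
noncomputable def next {k : ℕ} (S : Stage K k) : Stage K (k + 1) where
  L := envL _ (isFinFil_pres K hK S)
  inj := (emb_spec _ _).1
  C := cokernel (S.δ K hK)
  π := cokernel.π _
  φ := S.φ' K hK
  mono := by
    have := S.mono
    refine Preadditive.mono_of_cancel_zero _ fun {T} x hx => ?_
    rw [← Category.assoc, ← zero_comp (f := emb _ (isFinFil_pres K hK S)), cancel_mono] at hx
    obtain ⟨T', π, hπ, w, h1, h2⟩ := pres_refine K (S.φ ≫ S.π) (0 : T ⟶ S.C) x (by rw [hx, zero_comp])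
    rw [← cancel_epi π, h2, comp_zero]
    exact S.hker w (h1.symm.trans comp_zero)
  hker T x hx := by
    obtain ⟨T', π, hπ, c, hc⟩ := ((ShortComplex.mk _ _ (cokernel.condition (S.δ K hK))).exact_of_g_is_cokernel
      (cokernelIsCokernel _)).exact_up_to_refinements (x ≫ S.φ' K hK) (by
        rw [Category.assoc]
        exact hx)
    have hc' : (c ≫ S.π) ≫ presInl K (S.φ ≫ S.π) = (π ≫ x) ≫ presInr K (S.φ ≫ S.π) := by
      rw [← cancel_mono (emb _ (isFinFil_pres K hK S))]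
      have hc2 : π ≫ x ≫ presInr K (S.φ ≫ S.π) ≫ emb _ (isFinFil_pres K hK S) =
        c ≫ S.π ≫ presInl K (S.φ ≫ S.π) ≫ emb _ (isFinFil_pres K hK S) := hc
      simp only [Category.assoc] at hc2 ⊢
      exact hc2.symm
    obtain ⟨T'', π', hπ', w, -, h2⟩ := pres_refine K _ _ _ hc'
    rw [← cancel_epi π, ← cancel_epi π', comp_zero, comp_zero, ← Category.assoc, ← Category.assoc,
      Category.assoc π', h2, Category.assoc, HomologicalComplex.d_comp_d, comp_zero]
  epi := inferInstance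
  isoBot := isoBot_cokernel _ S.L.property.2.2 (envL _ (isFinFil_pres K hK S)).property.2.2
  monoTr := next_monoTr K hK S

/-- The first stage. -/
noncomputable def first : Stage K 0 where
  L := envL _ (hK 0)
  inj := (emb_spec _ _).1
  C := (envL _ (hK 0)).obj
  π := 𝟙 _
  φ := emb _ (hK 0)
  mono := inferInstance
  hker T x hx := by
    rw [Category.comp_id, ← zero_comp (f := emb _ (hK 0)), cancel_mono] at hx
    rw [hx, zero_comp]
  epi := inferInstance
  isoBot := (envL _ (hK 0)).property.2.2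
  monoTr := monoTr_pres_first K (fun p => (hK _).1 _) (emb _ (hK 0)) (emb_spec _ _).2.1 (emb_spec _ _).2.2.step _
    (Category.comp_id _)

/-- All stages. -/
noncomputable def stage : ∀ k, Stage K k
  | 0 => first K hK
  | k + 1 => next K hK (stage k)

/-- The resolution. -/
noncomputable def res : CochainComplex (ℤᵒᵖ ⥤ A) ℕ :=
  CochainComplex.of (fun k => (stage K hK k).L.obj) (fun k => (stage K hK k).δ K hK)
    (fun k => by
      change (stage K hK k).δ K hK ≫ ((stage K hK (k + 1)).π ≫ _) = 0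
      rw [← Category.assoc]
      refine (congrArg (· ≫ _) ?_).trans zero_comp
      exact cokernel.condition _)

theorem res_d (k : ℕ) : (res K hK).d k (k + 1) = (stage K hK k).δ K hK := by
  simp [res]

theorem good_res (k : ℕ) : Good ((res K hK).X k) := ⟨(stage K hK k).L.property, (stage K hK k).inj⟩

/-- The augmentation. -/
noncomputable def resι : K ⟶ res K hK where
  f k := (stage K hK k).φ
  comm' i j hij := by
    obtain rfl : i + 1 = j := hij
    rw [res_d]
    refine ((Category.assoc _ _ _).symm.trans ?_).trans (Category.assoc _ _ _)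
    change ((stage K hK i).φ ≫ (stage K hK i).π) ≫ _ = _
    rw [← Category.assoc, pres_condition, Category.assoc]

theorem quasiIso_resι : QuasiIso (resι K hK) := by
  rw [quasiIso_iff]
  intro n
  rw [quasiIsoAt_iff_isIso_homologyMap]
  have hcyc : ∀ ⦃T : ℤᵒᵖ ⥤ A⦄ (y : T ⟶ (res K hK).X n), y ≫ (res K hK).d n (n + 1) = 0 →
      ∃ (T' : ℤᵒᵖ ⥤ A) (π : T' ⟶ T) (_ : Epi π) (w : T' ⟶ K.X n), w ≫ K.d n (n + 1) = 0 ∧
        π ≫ y ≫ (stage K hK n).π = w ≫ (stage K hK n).φ ≫ (stage K hK n).π := fun T y hy => by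
    rw [res_d] at hy
    have h0 : (y ≫ (stage K hK n).π) ≫ presInl K ((stage K hK n).φ ≫ (stage K hK n).π) =
        (0 : T ⟶ K.X (n + 1)) ≫ presInr K ((stage K hK n).φ ≫ (stage K hK n).π) := by
      rw [← cancel_mono (emb _ (isFinFil_pres K hK (stage K hK n))), Category.assoc, Category.assoc, zero_comp, zero_comp]
      exact hy
    obtain ⟨T', π, hπ, w, h1, h2⟩ := pres_refine K _ _ _ h0
    exact ⟨T', π, hπ, w, h2.symm.trans comp_zero, h1⟩
  cases n with
  | zero =>
    have hE : Epi (HomologicalComplex.homologyMap (resι K hK) 0) := by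
      rw [HomologicalComplex.epi_homologyMap_iff_up_to_refinements _ 0 0 1 (by simp) (by simp)]
      intro T y hy
      obtain ⟨T', π, hπ, w, hw, h⟩ := hcyc y hy
      refine ⟨T', π, hπ, w, hw, 0, ?_⟩
      rw [zero_comp, add_zero]
      refine ((congrArg (π ≫ ·) (Category.comp_id y)).symm.trans h).trans ?_
      exact congrArg (w ≫ ·) (Category.comp_id _)
    have hM : Mono (HomologicalComplex.homologyMap (resι K hK) 0) := by
      rw [HomologicalComplex.mono_homologyMap_iff_up_to_refinements _ 0 0 1 (by simp) (by simp)]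
      intro T x hx y hy
      have : Mono ((resι K hK).f 0) := (stage K hK 0).mono
      refine ⟨T, 𝟙 T, inferInstance, 0, ?_⟩
      rw [zero_comp, Category.id_comp, ← cancel_mono ((resι K hK).f 0), zero_comp, hy,
        HomologicalComplex.shape _ _ _ (by simp), comp_zero]
    exact isIso_of_mono_of_epi _
  | succ k =>
    have hE : Epi (HomologicalComplex.homologyMap (resι K hK) (k + 1)) := by
      rw [HomologicalComplex.epi_homologyMap_iff_up_to_refinements _ k (k + 1) (k + 2) (by simp) (by simp)]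
      intro T y hy
      obtain ⟨T', π, hπ, w, hw, h⟩ := hcyc y hy
      obtain ⟨T'', π', hπ', c, hc⟩ := ((ShortComplex.mk _ _ (cokernel.condition ((stage K hK k).δ K hK))).exact_of_g_is_cokernel
        (cokernelIsCokernel _)).exact_up_to_refinements (π ≫ y - w ≫ (resι K hK).f (k + 1)) (by
          change (show T' ⟶ (stage K hK (k + 1)).L.obj from π ≫ y - w ≫ (resι K hK).f (k + 1)) ≫ (stage K hK (k + 1)).π = 0
          rw [Preadditive.sub_comp, Category.assoc, Category.assoc, h]; exact sub_self _)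
      refine ⟨T'', π' ≫ π, epi_comp _ _, π' ≫ w, by rw [Category.assoc, hw, comp_zero], c, ?_⟩
      rw [Preadditive.comp_sub, sub_eq_iff_eq_add] at hc
      rw [res_d]
      refine (Category.assoc _ _ _).trans (hc.trans ((add_comm _ _).trans ?_))
      exact congrArg (· + _) (Category.assoc _ _ _).symm
    have hM : Mono (HomologicalComplex.homologyMap (resι K hK) (k + 1)) := by
      rw [HomologicalComplex.mono_homologyMap_iff_up_to_refinements _ k (k + 1) (k + 2) (by simp) (by simp)]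
      intro T x hx c hc
      rw [res_d] at hc
      have hc' : (c ≫ (stage K hK k).π) ≫ presInl K ((stage K hK k).φ ≫ (stage K hK k).π) =
          x ≫ presInr K ((stage K hK k).φ ≫ (stage K hK k).π) := by
        rw [← cancel_mono (emb _ (isFinFil_pres K hK (stage K hK k))), Category.assoc, Category.assoc]
        exact hc.symm.trans (Category.assoc _ _ _).symm
      obtain ⟨T', π, hπ, w, -, h2⟩ := pres_refine K _ _ _ hc'
      exact ⟨T', π, hπ, w, h2⟩
    exact isIso_of_mono_of_epi _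

/-- Every bounded below filtered complex maps by a filtered quasi-isomorphism into filtered injectives. -/
theorem exists_resolution (M : CochainComplex (FilD.FilF A) ℤ) (a : ℤ) [M.IsStrictlyGE a] :
    ∃ (L : CochainComplex (FilD.FilF A) ℤ) (α : M ⟶ L), L.IsStrictlyGE a ∧
      (∀ n, FilD.IsFilteredInjective (L.X n)) ∧ FilD.IsFilteredQuasiIso α := by
  have : (Kι M).IsStrictlyGE a := (CochainComplex.isStrictlyGE_mapHomologicalComplex_obj_iff M (FilD.IsFinFil A).ι a).2 inferInstance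
  let e := ComplexShape.embeddingUpIntGE a
  have he : e.HasLift (𝟙 ((Kι M).restriction e)) := fun j hj i' hij' => by
    refine (IsZero.eq_of_src ?_ _ _)
    exact (Kι M).isZero_X_of_isStrictlySupported e i' (hj.notMem hij')
  let c := e.liftExtend (𝟙 ((Kι M).restriction e)) he
  have hci : ∀ n, IsIso (c.f n) := fun n => by
    by_cases hn : ∃ i, e.f i = n
    · obtain ⟨i, hi⟩ := hn
      rw [e.isIso_liftExtend_f_iff _ _ hi]
      exact inferInstanceAs (IsIso (𝟙 _))
    · exact ⟨0, ((Kι M).isZero_X_of_isStrictlySupported e n (by simpa using hn)).eq_of_src _ _,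
        (HomologicalComplex.isZero_extend_X _ e n (by simpa using hn)).eq_of_src _ _⟩
  have : IsIso c := HomologicalComplex.Hom.isIso_of_components c
  have hN : ∀ k, FilD.IsFinFil A (((Kι M).restriction e).X k) := fun k => (M.X _).property
  have := quasiIso_resι ((Kι M).restriction e) hN
  have hG : ∀ n, Good (((res ((Kι M).restriction e) hN).extend e).X n) := fun n => by
    by_cases hn : ∃ i, e.f i = n
    · obtain ⟨i, hi⟩ := hn
      exact (Good (A := A)).prop_of_iso (HomologicalComplex.extendXIso _ e hi).symm (good_res _ hN i)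
    · exact good_of_isZero (HomologicalComplex.isZero_extend_X _ e n (by simpa using hn))
  let α₀ := c ≫ HomologicalComplex.extendMap (resι ((Kι M).restriction e) hN) e
  let α : M ⟶ liftCx _ (fun n => (hG n).1) :=
    { f := fun n => ObjectProperty.homMk (α₀.f n)
      comm' := fun i j _ => ObjectProperty.hom_ext _ (α₀.comm i j) }
  have : QuasiIso (((FilD.IsFinFil A).ι.mapHomologicalComplex (ComplexShape.up ℤ)).map α) := by
    change QuasiIso α₀
    infer_instance
  exact ⟨_, α, isStrictlyGE_liftCx _ _ a, fun n => (hG n).2, isFilteredQuasiIso_of_quasiIso α⟩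

end Groth.L10.Fil
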