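import Groth.Agent.L10.Fil.Homotopy
import Mathlib.Algebra.Homology.HomotopyCategory.SingleFunctors

/-! The horseshoe lemma for filtered injective resolutions. -/

universe v u

open CategoryTheory CategoryTheory.Limits Opposite

set_option backward.defeqAttrib.useBackward true
set_option backward.isDefEq.respectTransparency false
set_option backward.isDefEq.respectTransparency.types false
namespace Groth.L10.Fil

variable {A : Type u} [Category.{v} A] [Abelian A]

/-- A degree zero map into a complex. -/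
noncomputable def ofCocycle {K : CochainComplex (FilD.FilF A) ℤ} {X : FilD.FilF A} (φ : X ⟶ K.X 0)
    (h : φ ≫ K.d 0 1 = 0) : (CochainComplex.singleFunctor (FilD.FilF A) 0).obj X ⟶ K :=
  HomologicalComplex.mkHomFromSingle φ (fun k hk => by
    obtain rfl : (0 : ℤ) + 1 = k := hk
    exact h)

/-- The degree zero component. -/
noncomputable def toZero {K : CochainComplex (FilD.FilF A) ℤ} {X : FilD.FilF A}
    (f : (CochainComplex.singleFunctor (FilD.FilF A) 0).obj X ⟶ K) : X ⟶ K.X 0 :=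
  (HomologicalComplex.singleObjXSelf (ComplexShape.up ℤ) 0 X).inv ≫ f.f 0

theorem toZero_d {K : CochainComplex (FilD.FilF A) ℤ} {X : FilD.FilF A}
    (f : (CochainComplex.singleFunctor (FilD.FilF A) 0).obj X ⟶ K) : toZero f ≫ K.d 0 1 = 0 := by
  rw [toZero, Category.assoc, f.comm]
  simp [CochainComplex.singleFunctor, CochainComplex.singleFunctors]

theorem ext_toZero {K : CochainComplex (FilD.FilF A) ℤ} {X : FilD.FilF A}
    {f g : (CochainComplex.singleFunctor (FilD.FilF A) 0).obj X ⟶ K} (h : toZero f = toZero g) : f = g :=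
  HomologicalComplex.from_single_hom_ext ((cancel_epi _).1 h)

theorem toZero_ofCocycle {K : CochainComplex (FilD.FilF A) ℤ} {X : FilD.FilF A} (φ : X ⟶ K.X 0) (h : φ ≫ K.d 0 1 = 0) :
    toZero (ofCocycle φ h) = φ := by
  change _ ≫ (HomologicalComplex.mkHomFromSingle φ _).f 0 = φ
  rw [HomologicalComplex.mkHomFromSingle_f, Iso.inv_hom_id_assoc]

theorem toZero_comp {K L : CochainComplex (FilD.FilF A) ℤ} {X : FilD.FilF A}
    (f : (CochainComplex.singleFunctor (FilD.FilF A) 0).obj X ⟶ K) (g : K ⟶ L) :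
    toZero (f ≫ g) = toZero f ≫ g.f 0 := by
  simp [toZero]

theorem toZero_map_comp {K : CochainComplex (FilD.FilF A) ℤ} {X Y : FilD.FilF A} (u : X ⟶ Y)
    (f : (CochainComplex.singleFunctor (FilD.FilF A) 0).obj Y ⟶ K) :
    toZero ((CochainComplex.singleFunctor (FilD.FilF A) 0).map u ≫ f) = u ≫ toZero f := by
  change _ ≫ ((HomologicalComplex.single (FilD.FilF A) (ComplexShape.up ℤ) 0).map u ≫ f).f 0 = _
  rw [HomologicalComplex.comp_f, HomologicalComplex.single_map_f_self, toZero]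
  simp

theorem horseshoe (S : ShortComplex (FilD.FilF A))
    (hS : ∀ p : ℤ, (S.map ((FilD.IsFinFil A).ι ⋙ (evaluation ℤᵒᵖ A).obj (op p))).ShortExact)
    (I : CochainComplex (FilD.FilF A) ℤ) [I.IsStrictlyGE 0] (hI : ∀ n, FilD.IsFilteredInjective (I.X n))
    (a : (CochainComplex.singleFunctor (FilD.FilF A) 0).obj S.X₁ ⟶ I)
    (J : CochainComplex (FilD.FilF A) ℤ)
    (c : (CochainComplex.singleFunctor (FilD.FilF A) 0).obj S.X₃ ⟶ J) (hc : FilD.IsFilteredQuasiIso c) :
    ∃ (M : CochainComplex (FilD.FilF A) ℤ) (α : I ⟶ M) (β : M ⟶ J) (b : (CochainComplex.singleFunctor (FilD.FilF A) 0).obj S.X₂ ⟶ M),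
      (∀ n, ∃ (r : M.X n ⟶ I.X n) (s : J.X n ⟶ M.X n), α.f n ≫ r = 𝟙 _ ∧ s ≫ β.f n = 𝟙 _ ∧ α.f n ≫ β.f n = 0 ∧
        r ≫ α.f n + β.f n ≫ s = 𝟙 _) ∧
      a ≫ α = (CochainComplex.singleFunctor (FilD.FilF A) 0).map S.f ≫ b ∧ b ≫ β = (CochainComplex.singleFunctor (FilD.FilF A) 0).map S.g ≫ c := by
  have hfm : ∀ p, Mono (S.f.hom.app (op p)) := fun p => (hS p).mono_f
  have hge : ∀ p, Epi (S.g.hom.app (op p)) := fun p => (hS p).epi_g
  have hfg : ∀ p, S.f.hom.app (op p) ≫ S.g.hom.app (op p) = 0 := fun p =>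
    (S.map (levF A p)).zero
  have hfs : Step S.f.hom := fun p T x y e => by
    obtain ⟨T', π, hπ, z, hz⟩ := (hS (p + 1)).exact.exact_up_to_refinements y (by
      change y ≫ S.g.hom.app (op (p + 1)) = 0
      have : Mono (st S.X₃.obj p) := S.X₃.property.1 _
      rw [← cancel_mono (st S.X₃.obj p), Category.assoc, ← st_naturality, ← reassoc_of% e, hfg, comp_zero, zero_comp])
    exact ⟨T', π, hπ, z, hz⟩
  have hgs : Step S.g.hom := fun p T x y e => by
    have := hge (p + 1)
    obtain ⟨T', π, hπ, z, hz⟩ := surjective_up_to_refinements_of_epi (S.g.hom.app (op (p + 1))) y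
    exact ⟨T', π, hπ, z, hz⟩
  have hfM : Mono S.f.hom := (NatTrans.mono_iff_mono_app _).2 fun d => hfm d.unop
  have : Mono S.f := mono_of_mono_hom _ hfM
  have hgE : Epi S.g := ⟨fun u v h => ObjectProperty.hom_ext _ (NatTrans.ext (funext fun d => by
    have := hge d.unop
    exact (cancel_epi (S.g.hom.app (op d.unop))).1 (congrArg (fun t => t.hom.app d) h)))⟩
  obtain ⟨b0', hb0'⟩ := exists_desc S.f (strict_of_step hfs) (hI 0) (toZero a)
  obtain ⟨γ', hγ'⟩ := exists_extension S.g.hom (b0' ≫ I.d 0 1).hom (fun p T x hx => by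
      obtain ⟨T', π, hπ, z, hz⟩ := (hS p).exact.exact_up_to_refinements x hx
      change π ≫ x = z ≫ S.f.hom.app (op p) at hz
      rw [← cancel_epi π, comp_zero, ← Category.assoc, hz, Category.assoc, ← NatTrans.comp_app,
        ← ObjectProperty.FullSubcategory.comp_hom, reassoc_of% hb0', toZero_d]
      exact comp_zero)
    hgs (fun p => injective_levels (I.X 1).property.1 (I.X 1).property.2.1 (hI 1) p)
    S.X₃.property.2.1 S.X₂.property.2.1
  let γ : S.X₃ ⟶ I.X 1 := ObjectProperty.homMk γ'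
  have hγ : S.g ≫ γ = b0' ≫ I.d 0 1 := ObjectProperty.hom_ext _ hγ'
  have hγd : γ ≫ I.d 1 2 = 0 := by
    rw [← cancel_epi S.g, reassoc_of% hγ, HomologicalComplex.d_comp_d, comp_zero, comp_zero]
  let I₁ := (CategoryTheory.shiftFunctor (CochainComplex (FilD.FilF A) ℤ) (1 : ℤ)).obj I
  have : I₁.IsStrictlyGE (-1) := CochainComplex.isStrictlyGE_shift I 0 1 (-1) (by omega)
  let γ₁ : (CochainComplex.singleFunctor (FilD.FilF A) 0).obj S.X₃ ⟶ I₁ := ofCocycle γ (by
    change γ ≫ ((1 : ℤ).negOnePow • I.d (0 + 1) (1 + 1)) = 0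
    rw [Linear.comp_units_smul]
    exact (congrArg _ hγd).trans (smul_zero _))
  obtain ⟨τ', hτ'⟩ := (precomp_bijective I₁ (-1) (fun n => hI (n + 1)) c hc).2
    ((HomotopyCategory.quotient _ _).map γ₁)
  obtain ⟨τ, rfl⟩ := (HomotopyCategory.quotient _ _).map_surjective τ'
  dsimp only at hτ'
  rw [← Functor.map_comp] at hτ'
  let h := HomotopyCategory.homotopyOfEq _ _ hτ'
  let h'₁ : S.X₃ ⟶ I₁.X (-1) := (HomologicalComplex.singleObjXSelf (ComplexShape.up ℤ) 0 S.X₃).inv ≫ h.hom 0 (-1)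
  let h' : S.X₃ ⟶ I.X 0 := h'₁
  let τ0 : J.X 0 ⟶ I.X 1 := τ.f 0
  let τf : ∀ n, J.X n ⟶ I.X (n + 1) := fun n => τ.f n
  have hh : toZero c ≫ τ0 + h' ≫ I.d 0 1 = γ := by
    have e := h.comm 0
    rw [dNext_eq _ (show (ComplexShape.up ℤ).Rel 0 1 from rfl),
      prevD_eq _ (show (ComplexShape.up ℤ).Rel (-1) 0 from rfl)] at e
    have e' := congrArg ((HomologicalComplex.singleObjXSelf (ComplexShape.up ℤ) 0 S.X₃).inv ≫ ·) e
    have hz : ((CochainComplex.singleFunctor (FilD.FilF A) 0).obj S.X₃).d 0 1 = 0 := HomologicalComplex.single_obj_d _ _ _ _ _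
    have hd1 : I₁.d (-1) 0 = -I.d 0 1 := by
      change (1 : ℤ).negOnePow • I.d (-1 + 1) (0 + 1) = _
      simp
    simp only [hz, zero_comp, zero_add, Preadditive.comp_add, HomologicalComplex.comp_f, hd1, Preadditive.comp_neg] at e'
    have e'' : toZero c ≫ τ0 = -(h' ≫ I.d 0 1) + γ := by
      refine ((toZero_comp c τ).symm.trans (e'.trans ?_))
      exact congrArg₂ (fun u v : S.X₃ ⟶ I.X 1 => u + v) (congrArg Neg.neg (Category.assoc _ _ _).symm)
        (toZero_ofCocycle (K := I₁) γ _)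
    rw [e'', add_comm (-(h' ≫ I.d 0 1)), neg_add_cancel_right]
  have hτ : ∀ n, τf n ≫ I.d (n + 1) (n + 1 + 1) + J.d n (n + 1) ≫ τf (n + 1) = 0 := fun n => by
    have e := τ.comm n (n + 1)
    have hd2 : I₁.d n (n + 1) = -I.d (n + 1) (n + 1 + 1) := by
      change (1 : ℤ).negOnePow • I.d (n + 1) (n + 1 + 1) = _
      simp
    rw [hd2, Preadditive.comp_neg] at e
    rw [← e]
    exact add_neg_cancel _
  let b0 : S.X₂ ⟶ I.X 0 := b0' - S.g ≫ h'
  have hb0 : b0 ≫ I.d 0 1 = S.g ≫ toZero c ≫ τ0 := by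
    simp only [b0, Preadditive.sub_comp, ← hγ, Category.assoc]
    rw [← hh, Preadditive.comp_add, add_sub_cancel_right]
  let dM : ∀ n : ℤ, I.X n ⊞ J.X n ⟶ I.X (n + 1) ⊞ J.X (n + 1) := fun n =>
    biprod.lift (biprod.desc (I.d n (n + 1)) (-τf n)) (biprod.snd ≫ J.d n (n + 1))
  have hdM : ∀ n, dM n ≫ dM (n + 1) = 0 := fun n => by
    have e := hτ n
    rw [add_eq_zero_iff_eq_neg] at e
    apply biprod.hom_ext <;> apply biprod.hom_ext' <;>
      simp [dM, biprod.desc_eq, Preadditive.comp_add, Preadditive.add_comp]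
    simp [e]
  let M := CochainComplex.of (fun n => I.X n ⊞ J.X n) dM hdM
  have hMd : ∀ n, M.d n (n + 1) = dM n := fun n => by simp [M]
  let α : I ⟶ M :=
    { f := fun n => biprod.inl
      comm' := fun i j hij => by
        obtain rfl : i + 1 = j := hij
        rw [hMd]
        apply biprod.hom_ext <;> simp [dM] }
  let β : M ⟶ J :=
    { f := fun n => biprod.snd
      comm' := fun i j hij => by
        obtain rfl : i + 1 = j := hij
        rw [hMd]
        simp [dM] }
  let b : (CochainComplex.singleFunctor (FilD.FilF A) 0).obj S.X₂ ⟶ M :=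
    ofCocycle (biprod.lift b0 (S.g ≫ toZero c)) (by
      change _ ≫ M.d 0 (0 + 1) = 0
      rw [hMd]
      apply biprod.hom_ext
      · simp [dM, biprod.desc_eq, Preadditive.comp_add]
        rw [← sub_eq_add_neg, sub_eq_zero]
        exact hb0
      · simp [dM]
        exact (congrArg (S.g ≫ ·) (toZero_d c)).trans comp_zero)
  refine ⟨M, α, β, b, fun n => ⟨biprod.fst, biprod.inr, biprod.inl_fst, biprod.inr_snd, biprod.inl_snd, biprod.total⟩,
    ext_toZero ?_, ext_toZero ?_⟩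
  · rw [toZero_comp, toZero_map_comp, toZero_ofCocycle]
    refine biprod.hom_ext _ _ ?_ ?_
    · simp [α, b0, hb0', reassoc_of% S.zero]
    · simp [α, reassoc_of% S.zero]
  · rw [toZero_comp, toZero_map_comp, toZero_ofCocycle]
    exact biprod.lift_snd _ _

end Groth.L10.Fil
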